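import Mathlib
import Cfsg.Agent.H150.OmegaSp
import Cfsg.Agent.H150.SpUnip
import Cfsg.Agent.S2469
import Cfsg.Agent.S2472
import Cfsg.Agent.LieClassical.OmegaCenter
import Cfsg.Agent.LieClassical.OmegaReindex
import Cfsg.Agent.S0788
import Cfsg.Agent.S0789
import Cfsg.Agent.Lib.Zsigmondy
import Cfsg.Agent.H376.SpEmb
import Cfsg.Agent.S0245
import Cfsg.Agent.H371.AlgLemma_m3
import Cfsg.Agent.H376.PrimeOrd
import Cfsg.Agent.H376.WordEmb
import Cfsg.Agent.S0289
import Cfsg.Agent.S0290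
import Cfsg.Agent.S0292
import Cfsg.Agent.S0293
import Cfsg.Agent.S0294
import Cfsg.Agent.S2474
import Cfsg.Agent.Prune
set_option linter.all false

section
prune_inst 0x7fffe8fcfbbb77dfffff7e7fae9cdffc3b979fffa6dff94bffe0ebff8bff331209edfbad0de0f0fe0ed6c23410b87853fbfffeffe26ff87ffffdbff45ffbee1ff5f7bd0811d588340f3c2ffe83f0778e7f3fffffffffffffffffffffffffffbeffbfffffffff

-- part: H390/NonAdj
section
prune_inst 0x1303004408000000000000022000004000005000000000020000200000800600040080000a000020200100008000040000000800000000000000000000600000000140000000c08000006000000000000000000000000000000000000000000000000000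
set_option linter.all false
open scoped Cfsg.Agent.FastGrp

-- part: H390/OrthDec
section
/-!
# Commuting isometries of a quadratic space: `V = ker (x - 1) ⊕ range (x - 1)` (helper390)

* `dec` : the data of the decomposition, any dimension, any characteristic;
* `exists_psp_of_range`: `x`, `y` commuting isometries of odd prime orders `r ≠ s`, `y` nontrivial on `W = range (x - 1)`,
  `dim W = 2 m`: an element of order `r * s` of `PSp_2m(q)`;
* `unip_range`: `y` unipotent, nontrivial on `W`: `η + 1 ≤ m`.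
-/

set_option autoImplicit false
set_option linter.unusedSectionVars false

namespace Cfsg.Agent.H390.Dec

open Module Cfsg Cfsg.Agent.H150
open Cfsg.Agent.LieClassical.OrthCount

variable {F : Type*} [Field F] {V : Type*} [AddCommGroup V] [Module F V] [FiniteDimensional F V]

/-- the data of the decomposition `V = C ⊕ M` -/
theorem dec (Q : QuadraticForm F V) (hQ : ND Q)
    {r : ℕ} (hrodd : Odd r) (hrF : (r : F) ≠ 0) (x : V →ₗ[F] V) (hx : x ^ r = 1) (hxQ : ∀ v, Q (x v) = Q v)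
    (hxM : ∀ v ∈ LinearMap.range (x - 1), x v ∈ LinearMap.range (x - 1)) :
      ND (Q.comp (LinearMap.ker (x - 1)).subtype) ∧
      ND (Q.comp (LinearMap.range (x - 1)).subtype) ∧
      (quadSym (Q.comp (LinearMap.range (x - 1)).subtype) (x.restrict hxM) r).IsAlt ∧
      (∀ u, (∀ v, quadSym (Q.comp (LinearMap.range (x - 1)).subtype) (x.restrict hxM) r u v = 0) → u = 0) ∧
      (∀ v : LinearMap.range (x - 1), x.restrict hxM v = v → v = 0) ∧
      Even (finrank F (LinearMap.range (x - 1))) := by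
  have hB : ∀ v w, QuadraticMap.polarBilin Q (x v) (x w) = QuadraticMap.polarBilin Q v w :=
    fun v w => polar_isom Q x hxQ v w
  have hC : ND (Q.comp (LinearMap.ker (x - 1)).subtype) := by
    intro u hu
    exact nondeg_ker hrF (QuadraticMap.polarBilin Q) (fun u hu => hQ u hu) x hx hB u (fun v => hu v)
  have hM : ND (Q.comp (LinearMap.range (x - 1)).subtype) := by
    intro u hu
    exact nondeg_range hrF (QuadraticMap.polarBilin Q) (fun u hu => hQ u hu) x hx hB u (fun v => hu v)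
  have hfpf : ∀ v : LinearMap.range (x - 1), x.restrict hxM v = v → v = 0 := by
    intro v hv
    apply Subtype.ext
    exact fpf_range hrF x hx v v.2 (congrArg Subtype.val hv)
  have hxM1 : (x.restrict hxM) ^ r = 1 := restrict_pow_eq_one hxM hx
  have halt : (quadSym (Q.comp (LinearMap.range (x - 1)).subtype) (x.restrict hxM) r).IsAlt :=
    quadSym_alt _ hrodd.pos _ (fun v => hxQ v) hxM1
  have hnd : ∀ u, (∀ v, quadSym (Q.comp (LinearMap.range (x - 1)).subtype) (x.restrict hxM) r u v = 0) → u = 0 :=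
    fun u hu => quadSym_nd _ (fun u hu => hM u hu) hrodd _ hxM1 hfpf u hu
  exact ⟨hC, hM, halt, hnd, hfpf, even_finrank_of_alt _ halt hnd⟩

/-- the dimension of `range (x - 1)` -/
theorem dvd_finrank [Finite F] (Q : QuadraticForm F V) (hQ : ND Q)
    {r : ℕ} (hr : r.Prime) (hr2 : r ≠ 2) (hrF : (r : F) ≠ 0) (x : V →ₗ[F] V) (hx : x ^ r = 1)
    (hxQ : ∀ v, Q (x v) = Q v) {η : ℕ}
    (hη : (Odd (orderOf ((Nat.card F : ℕ) : ZMod r)) ∧ η = orderOf ((Nat.card F : ℕ) : ZMod r)) ∨
      (Even (orderOf ((Nat.card F : ℕ) : ZMod r)) ∧ 2 * η = orderOf ((Nat.card F : ℕ) : ZMod r))) :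
    2 * η ∣ finrank F (LinearMap.range (x - 1)) := by
  have hxM := (range_inv (x := x) (y := x) (fun v => rfl)).1
  obtain ⟨-, -, -, -, hfpf, hev⟩ := dec Q hQ (hr.odd_of_ne_two hr2) hrF x hx hxQ hxM
  have h1 : orderOf ((Nat.card F : ℕ) : ZMod r) ∣ finrank F (LinearMap.range (x - 1)) :=
    dvd_finrank_of_fpf_submodule hr x hx _ hxM (fun v hv => fpf_range hrF x hx v hv)
  rcases hη with ⟨ho, rfl⟩ | ⟨he, h⟩
  · exact Nat.Coprime.mul_dvd_of_dvd_of_dvd (Nat.coprime_two_left.2 ho) hev.two_dvd h1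
  · rw [h]
    exact h1

theorem neg_one_eq_one (h2 : (2 : F) = 0) {W : Type*} [AddCommGroup W] [Module F W] : (-1 : Module.End F W) = 1 := by
  ext v
  have h : (-1 : F) = 1 := by linear_combination (-1 : F) * h2
  rw [LinearMap.neg_apply, Module.End.one_apply, ← one_smul F v, ← neg_smul, h]

/-- `y` nontrivial on `range (x - 1)`: an element of `PSp`. -/
theorem exists_psp_of_range (Q : QuadraticForm F V) (hQ : ND Q)
    {r s : ℕ} (hr : r.Prime) (hr2 : r ≠ 2) (hrF : (r : F) ≠ 0) (hs : s.Prime) (hs2 : s ≠ 2) (hrs : r ≠ s)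
    (x y : V →ₗ[F] V) (hcomm : Commute x y) (hx : x ^ r = 1) (hy : y ^ s = 1)
    (hxQ : ∀ v, Q (x v) = Q v) (hyQ : ∀ v, Q (y v) = Q v)
    (hyW : ∃ v ∈ LinearMap.range (x - 1), y v ≠ v) {m : ℕ} (hm : finrank F (LinearMap.range (x - 1)) = 2 * m) :
    ∃ g : PSp m F, orderOf g = r * s := by
  have hrodd : Odd r := hr.odd_of_ne_two hr2
  have hsodd : Odd s := hs.odd_of_ne_two hs2
  have hcop : Nat.Coprime r s := (Nat.coprime_primes hr hs).2 hrs
  have hxy : ∀ v, x (y v) = y (x v) := fun v => LinearMap.congr_fun hcomm.eq v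
  have hyM := (range_inv hxy).1
  have hxM := (range_inv (x := x) (y := x) (fun v => rfl)).1
  obtain ⟨-, -, halt, hnd, hfpf, -⟩ := dec Q hQ hrodd hrF x hx hxQ hxM
  set M := LinearMap.range (x - 1) with hM
  set QM := Q.comp M.subtype with hQM
  obtain ⟨v0, hv0, hyv0⟩ := hyW
  have hv00 : (⟨v0, hv0⟩ : M) ≠ 0 := by
    intro h
    have h1 : v0 = 0 := congrArg Subtype.val h
    rw [h1, map_zero] at hyv0
    exact hyv0 rfl
  have hNT : Nontrivial M := ⟨⟨_, _, hv00⟩⟩
  have hm1 : 1 ≤ m := by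
    have : 0 < finrank F M := Module.finrank_pos
    omega
  set xM : M →ₗ[F] M := x.restrict hxM with hxMdef
  set yM : M →ₗ[F] M := y.restrict hyM with hyMdef
  have hxM1 : xM ^ r = 1 := restrict_pow_eq_one hxM hx
  have hyM1 : yM ^ s = 1 := restrict_pow_eq_one hyM hy
  have hxMne : xM ≠ 1 := by
    intro h
    exact hv00 (hfpf _ (by rw [h]; rfl))
  have hyMne : yM ≠ 1 := by
    intro h
    exact hyv0 (congrArg Subtype.val (LinearMap.congr_fun h ⟨v0, hv0⟩))
  have hxMyM : ∀ v : M, xM (yM v) = yM (xM v) := fun v => Subtype.ext (hxy v)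
  have hcM : Commute xM yM := LinearMap.ext hxMyM
  have hxMB : ∀ v w, quadSym QM xM r (xM v) (xM w) = quadSym QM xM r v w :=
    fun v w => quadSym_map QM xM xM r (fun v => hxQ v) (fun v => rfl) v w
  have hyMB : ∀ v w, quadSym QM xM r (yM v) (yM w) = quadSym QM xM r v w :=
    fun v w => quadSym_map QM xM yM r (fun v => hyQ v) hxMyM v w
  have : Fact r.Prime := ⟨hr⟩
  have : Fact s.Prime := ⟨hs⟩
  have hox : orderOf xM = r := orderOf_eq_prime hxM1 hxMne
  have hoy : orderOf yM = s := orderOf_eq_prime hyM1 hyMne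
  have ho : orderOf (xM * yM) = r * s := by
    rw [hcM.orderOf_mul_eq_mul_orderOf_of_coprime (by rw [hox, hoy]; exact hcop), hox, hoy]
  have hpow : (xM * yM) ^ (r * s) = 1 := by rw [← ho, pow_orderOf_eq_one]
  refine exists_psp hm1 (quadSym QM xM r) halt hnd hm (xM * yM) ?_ (r * s) ?_
  · intro v w
    rw [Module.End.mul_apply, Module.End.mul_apply, hxMB, hyMB]
  · intro j
    constructor
    · rintro (h7 | h7)
      · rw [← ho]
        exact orderOf_dvd_of_pow_eq_one h7
      · by_cases h2 : (2 : F) = 0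
        · rw [← ho]
          apply orderOf_dvd_of_pow_eq_one
          rw [h7, neg_one_eq_one h2]
        · exact (pow_eq_neg_one_false h2 (hrodd.mul hsodd) hpow j h7).elim
    · intro h
      left
      rw [← orderOf_dvd_iff_pow_eq_one, ho]
      exact h

/-- `y` unipotent and nontrivial on `range (x - 1)`. -/
theorem unip_range [Finite F] (Q : QuadraticForm F V) (hQ : ND Q)
    {r : ℕ} (hr : r.Prime) (hr2 : r ≠ 2) (hrF : (r : F) ≠ 0)
    (x y : V →ₗ[F] V) (hcomm : Commute x y) (hx : x ^ r = 1) (hy : IsNilpotent (y - 1))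
    (hxQ : ∀ v, Q (x v) = Q v) (hyQ : ∀ v, Q (y v) = Q v)
    (hyW : ∃ v ∈ LinearMap.range (x - 1), y v ≠ v) {m : ℕ} (hm2 : 2 ≤ m)
    (hm : finrank F (LinearMap.range (x - 1)) = 2 * m) {η : ℕ}
    (hη : (Odd (orderOf ((Nat.card F : ℕ) : ZMod r)) ∧ η = orderOf ((Nat.card F : ℕ) : ZMod r)) ∨
      (Even (orderOf ((Nat.card F : ℕ) : ZMod r)) ∧ 2 * η = orderOf ((Nat.card F : ℕ) : ZMod r))) :
    η + 1 ≤ m := by
  have hrodd : Odd r := hr.odd_of_ne_two hr2
  have hxy : ∀ v, x (y v) = y (x v) := fun v => LinearMap.congr_fun hcomm.eq v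
  have hyM := (range_inv hxy).1
  have hxM := (range_inv (x := x) (y := x) (fun v => rfl)).1
  obtain ⟨-, -, halt, hnd, hfpf, -⟩ := dec Q hQ hrodd hrF x hx hxQ hxM
  set M := LinearMap.range (x - 1) with hM
  set QM := Q.comp M.subtype with hQM
  obtain ⟨v0, hv0, hyv0⟩ := hyW
  have hv00 : (⟨v0, hv0⟩ : M) ≠ 0 := by
    intro h
    have h1 : v0 = 0 := congrArg Subtype.val h
    rw [h1, map_zero] at hyv0
    exact hyv0 rfl
  set xM : M →ₗ[F] M := x.restrict hxM with hxMdef
  set yM : M →ₗ[F] M := y.restrict hyM with hyMdef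
  have hxM1 : xM ^ r = 1 := restrict_pow_eq_one hxM hx
  have hxMne : xM ≠ 1 := by
    intro h
    exact hv00 (hfpf _ (by rw [h]; rfl))
  have hyMne : yM ≠ 1 := by
    intro h
    exact hyv0 (congrArg Subtype.val (LinearMap.congr_fun h ⟨v0, hv0⟩))
  have hxMyM : ∀ v : M, xM (yM v) = yM (xM v) := fun v => Subtype.ext (hxy v)
  have hcM : Commute xM yM := LinearMap.ext hxMyM
  have hxMB : ∀ v w, quadSym QM xM r (xM v) (xM w) = quadSym QM xM r v w :=
    fun v w => quadSym_map QM xM xM r (fun v => hxQ v) (fun v => rfl) v w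
  have hyMB : ∀ v w, quadSym QM xM r (yM v) (yM w) = quadSym QM xM r v w :=
    fun v w => quadSym_map QM xM yM r (fun v => hyQ v) hxMyM v w
  have hyn : IsNilpotent (yM - 1) := by
    obtain ⟨k, hk⟩ := hy
    refine ⟨k, ?_⟩
    ext v
    have key : ∀ (j : ℕ) (v : M), (((yM - 1) ^ j) v : V) = ((y - 1) ^ j) v := by
      intro j
      induction j with
      | zero => intro v; rfl
      | succ j ih =>
        intro v
        rw [pow_succ, pow_succ, Module.End.mul_apply, Module.End.mul_apply, ih]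
        rfl
    rw [key, hk]
    rfl
  exact symp_bound hm2 (quadSym QM xM r) halt hnd hm hr hr2 hrF xM yM hcM hxM1 hxMne hxMB hyMB hyn hyMne rfl hη

end Cfsg.Agent.H390.Dec
end

-- part: H390/TwoDim
section
/-!
# Two-dimensional quadratic spaces and elements of order three; counting modulo `r` (helper390)
-/

set_option autoImplicit false
set_option linter.unusedSectionVars false

namespace Cfsg.Agent.H390.Dec

open Module Cfsg Cfsg.Agent.H150 QuadraticMap
open Cfsg.Agent.LieClassical.OrthCount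

theorem modEq_fixed {α : Type*} [Finite α] {r : ℕ} (hr : r.Prime) (σ : α → α) (hσ : ∀ a, σ^[r] a = a) :
    Nat.card α ≡ Nat.card {a // σ a = a} [MOD r] := by
  classical
  have := Fact.mk hr
  have : Fintype α := Fintype.ofFinite α
  let f : Function.End α := σ
  have hf : ∀ j : ℕ, ∀ a, (f ^ j) a = σ^[j] a := by
    intro j
    induction j with
    | zero => intro a; rfl
    | succ j ih =>
      intro a
      rw [pow_succ, Function.iterate_succ_apply, ← ih]
      rfl
  have h : f ^ r ^ 1 = 1 := by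
    rw [pow_one]
    funext a
    rw [hf, hσ]
    rfl
  have h1 := Equiv.Perm.card_fixedPoints_modEq h
  rw [Nat.card_eq_fintype_card, Nat.card_eq_fintype_card]
  exact h1

variable {F : Type*} [Field F]

section
variable {V : Type*} [AddCommGroup V] [Module F V]

/-- the number of singular vectors modulo `r` -/
theorem card_zeros_modEq [Finite V] (Q : QuadraticForm F V) {r : ℕ} (hr : r.Prime) (x : V →ₗ[F] V) (hx : x ^ r = 1)
    (hxQ : ∀ v, Q (x v) = Q v) :
    Nat.card {v : V // Q v = 0} ≡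
      Nat.card {u : LinearMap.ker (x - 1) // (Q.comp (LinearMap.ker (x - 1)).subtype) u = 0} [MOD r] := by
  let σ : {v : V // Q v = 0} → {v : V // Q v = 0} := fun v => ⟨x v, by rw [hxQ]; exact v.2⟩
  have hσ : ∀ (j : ℕ) (v : {v : V // Q v = 0}), ((σ^[j] v : {v : V // Q v = 0}) : V) = (x ^ j) v := by
    intro j
    induction j with
    | zero => intro v; rfl
    | succ j ih =>
      intro v
      rw [Function.iterate_succ_apply, ih, pow_succ, Module.End.mul_apply]
  have h1 := modEq_fixed hr σ (fun v => Subtype.ext (by rw [hσ, hx]; rfl))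
  have h2 : Nat.card {a // σ a = a} =
      Nat.card {u : LinearMap.ker (x - 1) // (Q.comp (LinearMap.ker (x - 1)).subtype) u = 0} := by
    refine Nat.card_congr
      { toFun := fun a => ⟨⟨(a.1 : V), ?_⟩, a.1.2⟩
        invFun := fun u => ⟨⟨(u.1 : V), u.2⟩, ?_⟩
        left_inv := fun a => rfl
        right_inv := fun u => rfl }
    · have := congrArg Subtype.val a.2
      change x (a.1 : V) = a.1 at this
      rw [LinearMap.mem_ker, LinearMap.sub_apply, this, Module.End.one_apply, sub_self]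
    · apply Subtype.ext
      have := u.1.2
      rw [LinearMap.mem_ker, LinearMap.sub_apply, Module.End.one_apply, sub_eq_zero] at this
      exact this
  rw [← h2]
  exact h1

/-- a hyperbolic pair in a two-dimensional space with a singular vector -/
theorem exists_hyp [FiniteDimensional F V] (Q : QuadraticForm F V) (hQ : ND Q) (h2 : finrank F V = 2) {e : V} (he : e ≠ 0) (hQe : Q e = 0) :
    ∃ φ : (F × F) ≃ₗ[F] V, ∀ p : F × F, Q (φ p) = p.1 * p.2 := by
  have hee : polar Q e e = 0 := by rw [polar_self, hQe]; simp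
  obtain ⟨f1, h11⟩ : ∃ f1, polar Q e f1 = 1 := by
    obtain ⟨f0, hf0⟩ : ∃ f0, polar Q e f0 ≠ 0 := by
      by_contra h
      push Not at h
      exact he (hQ e h)
    exact ⟨(polar Q e f0)⁻¹ • f0, by rw [polar_smul_right, smul_eq_mul, inv_mul_cancel₀ hf0]⟩
  obtain ⟨f, hef, hQf⟩ : ∃ f, polar Q e f = 1 ∧ Q f = 0 := by
    have key : ∀ a : F, Q (f1 + a • e) = Q f1 + a := by
      intro a
      have h3 : Q (f1 + a • e) = Q f1 + Q (a • e) + polar Q f1 (a • e) := by
        rw [polar]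
        ring
      rw [h3, QuadraticMap.map_smul, hQe, polar_smul_right, polar_comm, h11]
      simp
    refine ⟨f1 + (-Q f1) • e, ?_, ?_⟩
    · rw [polar_add_right, polar_smul_right, hee, h11]
      simp
    · rw [key]
      ring
  have hff : polar Q f f = 0 := by rw [polar_self, hQf]; simp
  let φ₀ : (F × F) →ₗ[F] V :=
    (LinearMap.fst F F F).smulRight e + (LinearMap.snd F F F).smulRight f
  have hφ₀ : ∀ p : F × F, φ₀ p = p.1 • e + p.2 • f := fun p => rfl
  have hinj : Function.Injective φ₀ := by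
    rw [← LinearMap.ker_eq_bot, LinearMap.ker_eq_bot']
    intro p hp
    rw [hφ₀] at hp
    have h4 : polar Q e (p.1 • e + p.2 • f) = p.2 := by
      rw [polar_add_right, polar_smul_right, polar_smul_right, hee, hef]
      simp
    have h5 : polar Q f (p.1 • e + p.2 • f) = p.1 := by
      rw [polar_add_right, polar_smul_right, polar_smul_right, hff, polar_comm _ f e, hef]
      simp
    rw [hp, polar_zero_right] at h4 h5
    exact Prod.ext h5.symm h4.symm
  refine ⟨LinearEquiv.ofInjectiveOfFinrankEq φ₀ hinj (by rw [h2]; simp), fun p => ?_⟩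
  change Q (φ₀ p) = _
  rw [hφ₀]
  have h6 : Q (p.1 • e + p.2 • f) = Q (p.1 • e) + Q (p.2 • f) + polar Q (p.1 • e) (p.2 • f) := by
    rw [polar]; ring
  rw [h6, QuadraticMap.map_smul, QuadraticMap.map_smul, hQe, hQf, polar_smul_left, polar_smul_right, hef]
  simp [smul_eq_mul]

/-- the number of singular vectors of a hyperbolic plane -/
theorem card_mul_eq_zero [Finite F] : Nat.card {p : F × F // p.1 * p.2 = 0} = 2 * Nat.card F - 1 := by
  classical
  have : Fintype F := Fintype.ofFinite F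
  have h : Nat.card {p : F × F // p.1 * p.2 = 0} = Nat.card (F ⊕ {b : F // b ≠ 0}) := by
    refine Nat.card_congr
      { toFun := fun p => if h : p.1.2 = 0 then Sum.inl p.1.1 else Sum.inr ⟨p.1.2, h⟩
        invFun := fun s => Sum.elim (fun a => ⟨(a, 0), by simp⟩) (fun b => ⟨(0, b.1), by simp⟩) s
        left_inv := ?_
        right_inv := ?_ }
    · rintro ⟨⟨a, b⟩, h⟩
      change a * b = 0 at h
      by_cases hb : b = 0
      · subst hb
        simp
      · have ha : a = 0 := (mul_eq_zero.1 h).resolve_right hb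
        subst ha
        simp [hb]
    · rintro (a | ⟨b, hb⟩)
      · simp
      · simp [hb]
  rw [h, Nat.card_eq_fintype_card, Fintype.card_sum, Nat.card_eq_fintype_card, Fintype.card_subtype_compl,
    Fintype.card_subtype_eq]
  have := Fintype.one_lt_card (α := F)
  omega

/-- the number of singular vectors of a nondegenerate plane -/
theorem zeros_two [Finite F] [FiniteDimensional F V] (Q : QuadraticForm F V) (hQ : ND Q) (h2 : finrank F V = 2) :
    (Nat.card {v : V // Q v = 0} = 1 ∧ ∀ v, Q v = 0 → v = 0) ∨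
      (Nat.card {v : V // Q v = 0} = 2 * Nat.card F - 1 ∧ ∃ v, v ≠ 0 ∧ Q v = 0) := by
  by_cases h : ∀ v, Q v = 0 → v = 0
  · left
    refine ⟨?_, h⟩
    rw [Nat.card_eq_one_iff_unique]
    exact ⟨⟨fun a b => Subtype.ext ((h _ a.2).trans (h _ b.2).symm)⟩, ⟨⟨0, map_zero Q⟩⟩⟩
  · right
    push Not at h
    obtain ⟨e, hQe, he⟩ := h
    obtain ⟨φ, hφ⟩ := exists_hyp Q hQ h2 he hQe
    refine ⟨?_, e, he, hQe⟩
    rw [← card_mul_eq_zero (F := F)]
    symm
    exact Nat.card_congr (φ.toEquiv.subtypeEquiv fun p => by rw [← hφ]; rfl)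

/-- an isometry of order three of an anisotropic space over a field with a primitive third root of unity -/
theorem aniso_three (Q : QuadraticForm F V) (h : ∀ v, Q v = 0 → v = 0) {ω : F} (hω : ω ^ 2 + ω + 1 = 0) (hω1 : ω ≠ 1)
    (y : V →ₗ[F] V) (hy : y ^ 3 = 1) (hyQ : ∀ v, Q (y v) = Q v) : y = 1 := by
  have h3 : ω ^ 3 = 1 := by linear_combination (ω - 1) * hω
  have hω0 : ω ≠ 0 := by
    rintro rfl
    norm_num at hω
  have hy3 : ∀ v, y (y (y v)) = v := by
    intro v
    have := LinearMap.congr_fun hy v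
    rw [pow_succ, pow_succ, pow_one, Module.End.mul_apply, Module.End.mul_apply, Module.End.one_apply] at this
    exact this
  -- eigenvectors
  have key : ∀ (c : F), c ^ 2 ≠ 1 → ∀ v, y v = c • v → v = 0 := by
    intro c hc v hv
    apply h
    have h1 := hyQ v
    rw [hv, QuadraticMap.map_smul, smul_eq_mul] at h1
    have h2 : (c ^ 2 - 1) * Q v = 0 := by linear_combination h1
    exact (mul_eq_zero.1 h2).resolve_left (sub_ne_zero.2 hc)
  have hω2 : ω ^ 2 ≠ 1 := by
    intro h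
    apply hω1
    linear_combination h3 - ω * h
  have hω4 : (ω ^ 2) ^ 2 ≠ 1 := by
    intro h
    apply hω1
    linear_combination h - ω * h3
  ext v
  rw [Module.End.one_apply]
  -- `w = y v - v`
  set w := y v - v with hw
  have hsum : y (y w) + y w + w = 0 := by
    rw [hw, map_sub, map_sub, hy3]
    abel
  have h5 : y (y w - (ω ^ 2) • w) = ω • (y w - (ω ^ 2) • w) := by
    have h6 : y (y w) = - y w - w := by
      rw [eq_sub_iff_add_eq, eq_neg_iff_add_eq_zero]
      rw [← hsum]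
      abel
    rw [map_sub, map_smul, h6, smul_sub, smul_smul]
    have h7 : ω * ω ^ 2 = 1 := by rw [← h3]; ring
    have h8 : (ω ^ 2 : F) = - ω - 1 := by linear_combination hω
    rw [h7, one_smul, h8, sub_smul, neg_smul, one_smul]
    abel
  have h6 := key ω hω2 _ h5
  rw [sub_eq_zero] at h6
  have h7 := key (ω ^ 2) hω4 _ h6
  rw [hw, sub_eq_zero] at h7
  exact h7

/-- an isometry `y` of a plane with `y ^ 3 = 1`, `3 ∤ q - 1`, `3 ∤ q`, the plane has singular vectors -/
theorem hyp_three [Finite F] [FiniteDimensional F V] (Q : QuadraticForm F V) (hQ : ND Q) (h2 : finrank F V = 2)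
    (hs : ∃ v, v ≠ 0 ∧ Q v = 0) (h3F : ((3 : ℕ) : F) ≠ 0) (hq : Nat.card F % 3 = 2)
    (y : V →ₗ[F] V) (hy : y ^ 3 = 1) (hyQ : ∀ v, Q (y v) = Q v) : y = 1 := by
  by_contra hy1
  have hfin : Finite V := Module.finite_of_finite F
  have hcard : Nat.card {v : V // Q v = 0} = 2 * Nat.card F - 1 := by
    rcases zeros_two Q hQ h2 with h | h
    · obtain ⟨v, hv, hv'⟩ := hs
      exact absurd (h.2 v hv') hv
    · exact h.1
  have hyM := (range_inv (x := y) (y := y) (fun v => rfl)).1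
  obtain ⟨-, -, -, -, -, hev⟩ := dec Q hQ (r := 3) (by decide) h3F y hy hyQ hyM
  have h0 : LinearMap.range (y - 1) ≠ ⊥ := by
    intro h
    rw [LinearMap.range_eq_bot, sub_eq_zero] at h
    exact hy1 h
  have hpos : 0 < finrank F (LinearMap.range (y - 1)) := by
    rw [Module.finrank_pos_iff]
    exact Submodule.nontrivial_iff_ne_bot.2 h0
  have hsum := LinearMap.finrank_range_add_finrank_ker (y - 1)
  have hker : LinearMap.ker (y - 1) = ⊥ := by
    rw [← Submodule.finrank_eq_zero (R := F)]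
    obtain ⟨k, hk⟩ := hev
    omega
  have h1 := card_zeros_modEq Q Nat.prime_three y hy hyQ
  have h4 : Nat.card {u : LinearMap.ker (y - 1) // (Q.comp (LinearMap.ker (y - 1)).subtype) u = 0} = 1 := by
    rw [Nat.card_eq_one_iff_unique]
    have hz : ∀ u : LinearMap.ker (y - 1), u = 0 := by
      intro u
      have hu : (u : V) ∈ (⊥ : Submodule F V) := by
        rw [← hker]
        exact u.2
      exact Subtype.ext ((Submodule.mem_bot F).1 hu)
    exact ⟨⟨fun a b => Subtype.ext ((hz _).trans (hz _).symm)⟩, ⟨⟨0, map_zero _⟩⟩⟩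
  rw [hcard, h4] at h1
  have h5 : (2 * Nat.card F - 1) % 3 = 1 % 3 := h1
  omega

/-- a unipotent isometry of a nondegenerate plane in odd characteristic is trivial -/
theorem uni_two [FiniteDimensional F V] (h20 : (2 : F) ≠ 0) (Q : QuadraticForm F V) (hQ : ND Q) (h2 : finrank F V = 2)
    (y : V →ₗ[F] V) (hy : IsNilpotent (y - 1)) (hyQ : ∀ v, Q (y v) = Q v) : y = 1 := by
  by_contra hy1
  set N := y - 1 with hN
  have hN0 : N ≠ 0 := sub_ne_zero.2 hy1
  have hyN : ∀ v, y v = v + N v := fun v => by rw [hN]; simp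
  have hN2 : ∀ v, N (N v) = 0 := by
    -- `ker N` has dimension one
    have hsum := LinearMap.finrank_range_add_finrank_ker N
    have hr0 : 0 < finrank F (LinearMap.range N) := by
      rw [Module.finrank_pos_iff]
      exact Submodule.nontrivial_iff_ne_bot.2 (by rwa [Ne, LinearMap.range_eq_bot])
    intro v
    by_contra hv
    -- `N v`, `N² v` independent, contradiction
    obtain ⟨w, hw, hw0, hNw⟩ := exists_ker_of_isNilpotent N hy (LinearMap.range N)
      (fun w _ => LinearMap.mem_range_self N w) (Submodule.nontrivial_iff_ne_bot.1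
        (Module.nontrivial_of_finrank_pos hr0))
    have hrk : finrank F (LinearMap.range N) = 1 := by
      have h3 : 0 < finrank F (LinearMap.ker N) := by
        rw [Module.finrank_pos_iff]
        exact ⟨⟨⟨w, hNw⟩, 0, fun h => hw0 (congrArg Subtype.val h)⟩⟩
      omega
    obtain ⟨c, hc⟩ := (finrank_eq_one_iff_of_nonzero' (⟨w, hw⟩ : LinearMap.range N)
      (fun h => hw0 (congrArg Subtype.val h))).1 hrk ⟨N v, LinearMap.mem_range_self N v⟩
    have h4 : c • w = N v := congrArg Subtype.val hc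
    rw [← h4, map_smul, hNw, smul_zero] at hv
    exact hv rfl
  obtain ⟨v, hv⟩ : ∃ v, N v ≠ 0 := by
    by_contra h
    push Not at h
    exact hN0 (LinearMap.ext h)
  set z := N v with hz
  have hpy : ∀ a b, polar Q (y a) (y b) = polar Q a b := fun a b => polar_isom Q y hyQ a b
  have hyz : y z = z := by rw [hyN, hz, hN2, add_zero]
  have hyv : y v = v + z := hyN v
  -- `z ⊥ z`
  have h5 : polar Q z z = 0 := by
    have h6 := hpy z v
    rw [hyz, hyv, polar_add_right] at h6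
    linear_combination h6
  have hQz : Q z = 0 := by
    rw [polar_self] at h5
    have h7 : (2 : F) * Q z = 0 := by
      rw [← h5]
      simp
    exact (mul_eq_zero.1 h7).resolve_left h20
  have h6 : polar Q z v = 0 := by
    have h7 := hyQ v
    rw [hyv] at h7
    have h8 : Q (v + z) = Q v + Q z + polar Q v z := by rw [polar]; ring
    rw [h8, hQz] at h7
    rw [polar_comm]
    linear_combination h7
  apply hv
  apply hQ
  intro w
  -- `z`, `v` span
  have hli : LinearIndependent F ![z, v] := by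
    rw [LinearIndependent.pair_iff]
    intro s t hst
    have h9 : t • z = 0 := by
      have := congrArg N hst
      rw [map_add, map_smul, map_smul, ← hz, hz, hN2, smul_zero, zero_add, map_zero] at this
      exact this
    have ht : t = 0 := (smul_eq_zero.1 h9).resolve_right hv
    rw [ht, zero_smul, add_zero] at hst
    exact ⟨(smul_eq_zero.1 hst).resolve_right hv, ht⟩
  have hspan := hli.span_eq_top_of_card_eq_finrank' (by rw [h2]; rfl)
  have hw : w ∈ Submodule.span F (Set.range ![z, v]) := by rw [hspan]; trivial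
  rw [Matrix.range_cons, Matrix.range_cons, Matrix.range_empty, Set.union_empty, Set.singleton_union,
    Submodule.mem_span_pair] at hw
  obtain ⟨s, t, rfl⟩ := hw
  rw [polar_add_right, polar_smul_right, polar_smul_right, h5, h6]
  simp

end

end Cfsg.Agent.H390.Dec
end

-- part: H390/NonAdj
section
/-!
# No elements of order `3 r`, `r` a primitive prime divisor (helper390)

`IsEta e η`: `η = e` for odd `e`, `η = e / 2` for even `e`.
`OK3 q e`: `3` is not joined to the primitive prime divisors of `q ^ e - 1` in `PSp_2η(q)`.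
-/

set_option autoImplicit false
set_option linter.unusedSectionVars false

namespace Cfsg.Agent.H390.NonAdj

open Module Cfsg Cfsg.Agent.H150 QuadraticMap Cfsg.Agent.H390.Dec
open Cfsg.Agent.LieClassical.OrthCount

/-- `η` -/
def IsEta (e η : ℕ) : Prop := (Odd e ∧ η = e) ∨ (Even e ∧ 2 * η = e)

/-- the arithmetic condition -/
def OK3 (q e : ℕ) : Prop := (q % 3 = 1 → Even e) ∧ (q % 3 = 2 → ∀ t, Odd t → e ≠ 2 * t)

theorem IsEta.ne {e η : ℕ} (h : IsEta e η) (h1 : 1 ≤ e) : 1 ≤ η := by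
  rcases h with ⟨_, h⟩ | ⟨⟨k, hk⟩, h⟩ <;> omega

variable {F : Type*} [Field F]

theorem natCast_ne_zero_iff [Finite F] {r : ℕ} (hr : r.Prime) : ((r : ℕ) : F) ≠ 0 ↔ ¬ r ∣ Nat.card F := by
  have : Fintype F := Fintype.ofFinite F
  obtain ⟨p, hp⟩ := CharP.exists F
  have hpp : p.Prime := CharP.char_is_prime F p
  have := Fact.mk hpp
  rw [Ne, CharP.cast_eq_zero_iff F p, (Nat.prime_dvd_prime_iff_eq hpp hr)]
  obtain ⟨n, hn⟩ := FiniteField.card F p
  rw [Nat.card_eq_fintype_card, hn.2]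
  constructor
  · intro h h1
    exact h ((Nat.prime_dvd_prime_iff_eq hr hpp).1 (hr.dvd_of_dvd_pow h1)).symm
  · rintro h rfl
    exact h (dvd_pow_self _ n.pos.ne')

theorem orderOf_three {q : ℕ} : (q % 3 = 1 → orderOf ((q : ℕ) : ZMod 3) = 1) ∧
    (q % 3 = 2 → orderOf ((q : ℕ) : ZMod 3) = 2) := by
  constructor
  · intro h
    have : ((q : ℕ) : ZMod 3) = 1 := by
      rw [← Nat.cast_one, ZMod.natCast_eq_natCast_iff]
      exact h
    rw [this, orderOf_one]
  · intro h
    have h1 : ((q : ℕ) : ZMod 3) = 2 := by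
      have : ((q : ℕ) : ZMod 3) = ((2 : ℕ) : ZMod 3) := by
        rw [ZMod.natCast_eq_natCast_iff]
        exact h
      exact this
    rw [h1]
    exact orderOf_eq_prime (by decide) (by decide)

theorem mod_three_of_ne [Finite F] (h3 : ((3 : ℕ) : F) ≠ 0) : Nat.card F % 3 = 1 ∨ Nat.card F % 3 = 2 := by
  have := (natCast_ne_zero_iff Nat.prime_three).1 h3
  omega

/-- no elements of order `3 r` in `PSp_2m(q)`, `r` a primitive prime divisor of `q ^ e - 1`, `η(e) = m` -/
theorem psp_no_three [Fintype F] {m : ℕ} (hm : 2 ≤ m) (hm2 : m = 2 → 3 ≤ Fintype.card F) {r : ℕ} (hr : r.Prime)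
    (hr2 : r ≠ 2) (hr3 : r ≠ 3) (hrF : ((r : ℕ) : F) ≠ 0) (h3F : ((3 : ℕ) : F) ≠ 0) {e : ℕ}
    (he : orderOf ((Nat.card F : ℕ) : ZMod r) = e) (hη : IsEta e m) (hok : OK3 (Nat.card F) e) (g : PSp m F) :
    orderOf g ≠ r * 3 := by
  intro hg
  obtain ⟨p, hp⟩ := CharP.exists F
  have hpp : p.Prime := CharP.char_is_prime F p
  have := Fact.mk hpp
  have hrp : r ≠ p := by
    rintro rfl
    exact hrF (CharP.cast_eq_zero F _)
  have h3p : 3 ≠ p := by
    rintro rfl
    exact h3F (CharP.cast_eq_zero F _)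
  have hq : Nat.card F = Fintype.card F := Nat.card_eq_fintype_card
  have hfin : Finite (PSp m F) := inferInstance
  have h3G : 3 ∣ Nat.card (PSp m F) := ((Dvd.intro_left r rfl).trans (dvd_of_eq hg.symm)).trans (orderOf_dvd_natCard g)
  have hrG : r ∣ Nat.card (PSp m F) := ((Dvd.intro 3 rfl).trans (dvd_of_eq hg.symm)).trans (orderOf_dvd_natCard g)
  rw [hq] at he hok
  obtain ⟨k, hk, hk1⟩ : ∃ k, k = orderOf ((Fintype.card F : ℕ) : ZMod 3) ∧
      ((k = 1 ∧ Fintype.card F % 3 = 1) ∨ (k = 2 ∧ Fintype.card F % 3 = 2)) := by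
    refine ⟨_, rfl, ?_⟩
    rcases mod_three_of_ne h3F with h | h <;> rw [hq] at h
    · exact Or.inl ⟨orderOf_three.1 h, h⟩
    · exact Or.inr ⟨orderOf_three.2 h, h⟩
  have h1 := (Cfsg.Agent.S2469.result (F := F) p m hm hm2 3 r Nat.prime_three hr (by norm_num) hr2 h3p hrp
    (Ne.symm hr3) h3G hrG k e 1 m hk he.symm ?_ hη (by omega)).2 ⟨by omega, ?_⟩
  · exact h1 ⟨g, by rw [hg, mul_comm]⟩
  · rcases hk1 with ⟨rfl, -⟩ | ⟨rfl, -⟩
    · exact Or.inl ⟨by decide, rfl⟩
    · exact Or.inr ⟨by decide, rfl⟩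
  · rintro ⟨t, ht, het⟩
    rcases hk1 with ⟨rfl, h⟩ | ⟨rfl, h⟩
    · rw [one_mul] at het
      have := hok.1 h
      rw [het] at this
      exact (Nat.not_even_iff_odd.2 ht) this
    · exact hok.2 h t ht het

theorem exists_omega [Finite F] (hq : Nat.card F % 3 = 1) : ∃ ω : F, ω ^ 2 + ω + 1 = 0 ∧ ω ≠ 1 := by
  have : Fintype F := Fintype.ofFinite F
  have := Fact.mk Nat.prime_three
  have h1 : 3 ∣ Nat.card Fˣ := by
    rw [Nat.card_units]
    omega
  obtain ⟨u, hu⟩ := exists_prime_orderOf_dvd_card' (G := Fˣ) 3 h1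
  have hu1 : (u : F) ≠ 1 := by
    intro h
    rw [Units.val_eq_one] at h
    rw [h, orderOf_one] at hu
    omega
  refine ⟨u, ?_, hu1⟩
  have h3 : (u : F) ^ 3 = 1 := by
    rw [← Units.val_pow_eq_pow_val, ← hu, pow_orderOf_eq_one, Units.val_one]
  have h4 : ((u : F) - 1) * ((u : F) ^ 2 + u + 1) = 0 := by linear_combination h3
  exact (mul_eq_zero.1 h4).resolve_left (sub_ne_zero.2 hu1)

section
variable {V : Type*} [AddCommGroup V] [Module F V] [FiniteDimensional F V]

/-- splitting an isometry of order `r * 3` -/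
theorem split_three {T : V →ₗ[F] V} {r : ℕ} (hr : r.Prime) (hr3 : r ≠ 3) (hT : ∀ j : ℕ, T ^ j = 1 ↔ r * 3 ∣ j) :
    (T ^ 3) ^ r = 1 ∧ T ^ 3 ≠ 1 ∧ (T ^ r) ^ 3 = 1 ∧ T ^ r ≠ 1 := by
  refine ⟨?_, ?_, ?_, ?_⟩
  · rw [← pow_mul, hT, mul_comm]
  · rw [Ne, hT]
    intro h
    have := Nat.le_of_dvd (by norm_num) h
    have := hr.two_le
    omega
  · rw [← pow_mul, hT]
  · rw [Ne, hT]
    intro h
    have := Nat.le_of_dvd hr.pos h
    have := hr.pos
    omega

theorem quad_pow {Q : QuadraticForm F V} {T : V →ₗ[F] V} (hT : ∀ v, Q (T v) = Q v) (j : ℕ) (v : V) :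
    Q ((T ^ j) v) = Q v := by
  induction j generalizing v with
  | zero => rfl
  | succ j ih => rw [pow_succ, Module.End.mul_apply, ih, hT]

theorem nilp_of_three (h3F : ((3 : ℕ) : F) = 0) {y : V →ₗ[F] V} (hy : y ^ 3 = 1) : IsNilpotent (y - 1) := by
  refine ⟨3, ?_⟩
  have h3 : (3 : Module.End F V) = 0 := by
    have : (3 : Module.End F V) = algebraMap F (Module.End F V) (3 : ℕ) := by
      rw [map_natCast]
      norm_num
    rw [this, h3F, map_zero]
  have : (y - 1) ^ 3 = y ^ 3 - 1 + 3 * (y - y ^ 2) := by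
    noncomm_ring
  rw [this, hy, h3]
  simp

/-- the top case: `η(e) = n`, `dim V ∈ {2 n, 2 n + 1}`: the range is of dimension `2 n` -/
theorem finrank_range_eq [Finite F] (Q : QuadraticForm F V) (hQ : ND Q) {r : ℕ} (hr : r.Prime) (hr2 : r ≠ 2)
    (hrF : ((r : ℕ) : F) ≠ 0) {x : V →ₗ[F] V} (hx : x ^ r = 1) (hx1 : x ≠ 1) (hxQ : ∀ v, Q (x v) = Q v) {e m : ℕ}
    (he : orderOf ((Nat.card F : ℕ) : ZMod r) = e) (hη : IsEta e m) (hm : finrank F V < 4 * m) :
    finrank F (LinearMap.range (x - 1)) = 2 * m := by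
  have h1 := dvd_finrank Q hQ hr hr2 hrF x hx hxQ (η := m) (by rw [he]; exact hη)
  have h2 : finrank F (LinearMap.range (x - 1)) ≤ finrank F V := Submodule.finrank_le _
  have h3 : 0 < finrank F (LinearMap.range (x - 1)) := by
    rw [Module.finrank_pos_iff]
    apply Submodule.nontrivial_iff_ne_bot.2
    intro h
    rw [LinearMap.range_eq_bot, sub_eq_zero] at h
    exact hx1 h
  obtain ⟨k, hk⟩ := h1
  have : k = 1 := by
    rcases k with _ | _ | k
    · omega
    · rfl
    · exfalso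
      nlinarith
  rw [hk, this, mul_one]

/-- `y` is trivial on `range (x - 1)` -/
theorem trivial_on_range [Fintype F] (Q : QuadraticForm F V) (hQ : ND Q) {r : ℕ} (hr : r.Prime) (hr2 : r ≠ 2)
    (hr3 : r ≠ 3) (hrF : ((r : ℕ) : F) ≠ 0) {x y : V →ₗ[F] V} (hcomm : Commute x y) (hx : x ^ r = 1) (hx1 : x ≠ 1)
    (hy : y ^ 3 = 1) (hxQ : ∀ v, Q (x v) = Q v) (hyQ : ∀ v, Q (y v) = Q v) {e m : ℕ}
    (he : orderOf ((Nat.card F : ℕ) : ZMod r) = e) (hη : IsEta e m) (hm2 : 2 ≤ m) (hmq : m = 2 → 3 ≤ Fintype.card F)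
    (hm : finrank F V < 4 * m) (hok : OK3 (Nat.card F) e) : ∀ v ∈ LinearMap.range (x - 1), y v = v := by
  by_contra hcon
  push Not at hcon
  have hd := finrank_range_eq Q hQ hr hr2 hrF hx hx1 hxQ he hη hm
  by_cases h3F : ((3 : ℕ) : F) = 0
  · have := unip_range Q hQ hr hr2 hrF x y hcomm hx (nilp_of_three h3F hy) hxQ hyQ hcon hm2 hd (η := m)
      (by rw [he]; exact hη)
    omega
  · obtain ⟨g, hg⟩ := exists_psp_of_range Q hQ hr hr2 hrF Nat.prime_three (by norm_num) hr3 x y hcomm hx hy hxQ hyQ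
      hcon hd
    exact psp_no_three hm2 hmq hr hr2 hr3 hrF h3F he hη hok g hg

/-- **top case**, even dimension -/
theorem no_three_top [Fintype F] (Q : QuadraticForm F V) (hQ : ND Q) {n : ℕ} (hn : 2 ≤ n)
    (hnq : n = 2 → 3 ≤ Fintype.card F) (hV : finrank F V = 2 * n) {r : ℕ} (hr : r.Prime) (hr2 : r ≠ 2)
    (hr3 : r ≠ 3) (hrF : ((r : ℕ) : F) ≠ 0) {e : ℕ} (he : orderOf ((Nat.card F : ℕ) : ZMod r) = e) (hη : IsEta e n)
    (hok : OK3 (Nat.card F) e) (T : V →ₗ[F] V) (hTQ : ∀ v, Q (T v) = Q v) (hT : ∀ j : ℕ, T ^ j = 1 ↔ r * 3 ∣ j) :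
    False := by
  obtain ⟨h1, h2, h3, h4⟩ := split_three hr hr3 hT
  have hcomm : Commute (T ^ 3) (T ^ r) := (Commute.refl T).pow_pow _ _
  have hd := finrank_range_eq Q hQ hr hr2 hrF h1 h2 (quad_pow hTQ 3) he hη (by omega)
  have htop : LinearMap.range (T ^ 3 - 1) = ⊤ := Submodule.eq_top_of_finrank_eq (by rw [hd, hV])
  have h5 := trivial_on_range Q hQ hr hr2 hr3 hrF hcomm h1 h2 h3 (quad_pow hTQ 3) (quad_pow hTQ r) he hη hn hnq
    (by omega) hok
  apply h4
  ext v
  exact h5 v (by rw [htop]; trivial)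

/-- **sub case**, even dimension -/
theorem no_three_sub [Fintype F] (Q : QuadraticForm F V) (hQ : ND Q) {m : ℕ} (hm : 3 ≤ m)
    (hV : finrank F V = 2 * (m + 1)) {r : ℕ} (hr : r.Prime) (hr2 : r ≠ 2)
    (hr3 : r ≠ 3) (hrF : ((r : ℕ) : F) ≠ 0) {e : ℕ} (he : orderOf ((Nat.card F : ℕ) : ZMod r) = e) (he2 : e ≠ 1)
    (hη : IsEta e m) (hok : OK3 (Nat.card F) e)
    (hz : (Nat.card F % 3 = 1 → Nat.card {v : V // Q v = 0} ≡ 1 [MOD r]) ∧
      (Nat.card F % 3 = 2 → Nat.card {v : V // Q v = 0} ≡ 2 * Nat.card F - 1 [MOD r]))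
    (T : V →ₗ[F] V) (hTQ : ∀ v, Q (T v) = Q v) (hT : ∀ j : ℕ, T ^ j = 1 ↔ r * 3 ∣ j) :
    False := by
  have hfinV : Finite V := Module.finite_of_finite F
  obtain ⟨h1, h2, h3, h4⟩ := split_three hr hr3 hT
  have hcomm : Commute (T ^ 3) (T ^ r) := (Commute.refl T).pow_pow _ _
  have hd := finrank_range_eq Q hQ hr hr2 hrF h1 h2 (quad_pow hTQ 3) he hη (by omega)
  have h5 := trivial_on_range Q hQ hr hr2 hr3 hrF hcomm h1 h2 h3 (quad_pow hTQ 3) (quad_pow hTQ r) he hη (by omega)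
    (by omega) (by omega) hok
  set x := T ^ 3 with hx
  set y := T ^ r with hy
  have hxy : ∀ v, x (y v) = y (x v) := fun v => LinearMap.congr_fun hcomm.eq v
  have hyC := (range_inv hxy).2
  have hxM := (range_inv (x := x) (y := x) (fun v => rfl)).1
  have hcompl := isCompl_fix hrF x h1
  have hsum := Submodule.finrank_add_eq_of_isCompl hcompl
  have hU2 : finrank F (LinearMap.ker (x - 1)) = 2 := by omega
  obtain ⟨hCnd, -, -, -, -, -⟩ := dec Q hQ (hr.odd_of_ne_two hr2) hrF x h1 (quad_pow hTQ 3) hxM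
  have hyU3 : (y.restrict hyC) ^ 3 = 1 := restrict_pow_eq_one hyC h3
  have hyUQ : ∀ v, (Q.comp (LinearMap.ker (x - 1)).subtype) (y.restrict hyC v) =
      (Q.comp (LinearMap.ker (x - 1)).subtype) v := fun v => quad_pow hTQ r v
  have hyU1 : y.restrict hyC ≠ 1 := by
    intro h
    apply h4
    refine eq_one_of_restrict hcompl ?_ h5
    intro v hv
    exact congrArg Subtype.val (LinearMap.congr_fun h ⟨v, hv⟩)
  apply hyU1
  by_cases h3F : ((3 : ℕ) : F) = 0
  · have h20 : (2 : F) ≠ 0 := by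
      intro h20
      have h6 : (1 : F) = ((3 : ℕ) : F) - 2 := by push_cast; ring
      rw [h3F, h20, sub_zero] at h6
      exact one_ne_zero h6
    exact uni_two h20 _ hCnd hU2 _ (nilp_of_three h3F hyU3) hyUQ
  · have hcount := card_zeros_modEq Q hr x h1 (quad_pow hTQ 3)
    have hq1 : 1 < Nat.card F := Finite.one_lt_card
    -- `r` does not divide `2 (q - 1)`
    have hrq : ¬ r ∣ 2 * Nat.card F - 1 - 1 := by
      intro h
      have h6 : 2 * Nat.card F - 1 - 1 = 2 * (Nat.card F - 1) := by omega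
      rw [h6] at h
      have h7 : r ∣ Nat.card F - 1 :=
        ((hr.dvd_mul).1 h).resolve_left (fun h => hr2 ((Nat.prime_dvd_prime_iff_eq hr Nat.prime_two).1 h))
      apply he2
      rw [← he]
      rw [orderOf_eq_one_iff]
      have h8 : Nat.card F ≡ 1 [MOD r] := ((Nat.modEq_iff_dvd' hq1.le).2 h7).symm
      have h9 := (ZMod.natCast_eq_natCast_iff _ _ _).2 h8
      simpa using h9
    rcases mod_three_of_ne h3F with hq | hq
    · rcases zeros_two _ hCnd hU2 with h | h
      · obtain ⟨ω, hω, hω1⟩ := exists_omega hq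
        exact aniso_three _ h.2 hω hω1 _ hyU3 hyUQ
      · exfalso
        have h6 := hcount.symm.trans (hz.1 hq)
        rw [h.1] at h6
        exact hrq ((Nat.modEq_iff_dvd' (by omega)).1 h6.symm)
    · rcases zeros_two _ hCnd hU2 with h | h
      · exfalso
        have h6 := hcount.symm.trans (hz.2 hq)
        rw [h.1] at h6
        exact hrq ((Nat.modEq_iff_dvd' (by omega)).1 h6)
      · exact hyp_three _ hCnd hU2 h.2 h3F hq _ hyU3 hyUQ

end

end Cfsg.Agent.H390.NonAdj
end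
end

-- part: H390/Lift
section
set_option linter.all false
open scoped Cfsg.Agent.FastGrp

/-!
# Elements of odd order in `PΩ(Q)` and in the isometry group (helper390)

`Data Q`: nondegenerate, isotropic, dimension at least 3, `Ω` of index 2 or 4.

* `exists_isom`, `exists_pomega`: orders of elements of odd order of `PΩ(Q)` and of the isometry group of `Q`;
* `exists_lin`: an element of order `m` of the isometry group as a linear map.
-/

set_option autoImplicit false

namespace Cfsg.Agent.H390.Lift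

open Module Cfsg QuadraticMap Cfsg.Agent.H150
open Cfsg.Agent.LieClassical.OrthCount Cfsg.Agent.LieClassical.OmegaReindex Cfsg.Agent.LieClassical

/-- orders of elements of a quotient by a central subgroup of exponent two: odd orders lift -/
theorem lift_odd {G : Type*} [Group G] (Z : Subgroup G) [Z.Normal] (hZ : ∀ z ∈ Z, z ^ 2 = 1) {m : ℕ} (hm : Odd m)
    (h : ∃ x : G ⧸ Z, orderOf x = m) : ∃ x : G, orderOf x = m := by
  obtain ⟨x, hx⟩ := h
  obtain ⟨g, rfl⟩ := QuotientGroup.mk'_surjective Z x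
  have hmz : g ^ m ∈ Z := by
    rw [← QuotientGroup.eq_one_iff]
    change (QuotientGroup.mk' Z) (g ^ m) = 1
    rw [map_pow, ← hx, pow_orderOf_eq_one]
  obtain ⟨k, hk⟩ := hm
  have h2 : (m + 1) = 2 * (k + 1) := by omega
  refine ⟨g ^ (m + 1), ?_⟩
  apply Nat.dvd_antisymm
  · apply orderOf_dvd_of_pow_eq_one
    rw [← pow_mul, mul_comm, pow_mul, h2, pow_mul, hZ _ hmz, one_pow]
  · have h4 : (QuotientGroup.mk' Z g) ^ m = 1 := by
      rw [← hx]
      exact pow_orderOf_eq_one _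
    have h3 : (QuotientGroup.mk' Z) (g ^ (m + 1)) = (QuotientGroup.mk' Z) g := by
      rw [map_pow, pow_succ, h4, one_mul]
    have h5 := orderOf_map_dvd (QuotientGroup.mk' Z) (g ^ (m + 1))
    rwa [h3, hx] at h5

/-- odd orders descend -/
theorem desc_odd {G : Type*} [Group G] (Z : Subgroup G) [Z.Normal] (hZ : ∀ z ∈ Z, z ^ 2 = 1) {m : ℕ} (hm : Odd m)
    (h : ∃ x : G, orderOf x = m) : ∃ x : G ⧸ Z, orderOf x = m := by
  obtain ⟨x, hx⟩ := h
  refine ⟨QuotientGroup.mk' Z x, ?_⟩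
  apply Nat.dvd_antisymm
  · rw [← hx]
    exact orderOf_map_dvd _ _
  · have h1 : x ^ orderOf (QuotientGroup.mk' Z x) ∈ Z := by
      rw [← QuotientGroup.eq_one_iff]
      change (QuotientGroup.mk' Z) (x ^ _) = 1
      rw [map_pow, pow_orderOf_eq_one]
    have h2 := hZ _ h1
    rw [← pow_mul] at h2
    have h3 := orderOf_dvd_of_pow_eq_one h2
    rw [hx] at h3
    exact (Nat.Coprime.dvd_of_dvd_mul_right (Nat.Coprime.symm (Nat.coprime_two_left.2 hm)) h3)

/-- elements of odd order lie in normal subgroups of index 2 or 4 with commutative quotient -/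
theorem mem_of_odd {G : Type*} [Group G] (N : Subgroup G) [N.Normal] (h : N.index = 2 ∨ N.index = 4) {g : G} {m : ℕ}
    (hm : Odd m) (hg : g ^ m = 1) : g ∈ N := by
  rw [← QuotientGroup.eq_one_iff]
  have h1 : orderOf (g : G ⧸ N) ∣ m := by
    apply orderOf_dvd_of_pow_eq_one
    change (QuotientGroup.mk' N g) ^ m = 1
    rw [← map_pow, hg, map_one]
  have h2 : orderOf (g : G ⧸ N) ∣ 4 := by
    have h3 : orderOf (g : G ⧸ N) ∣ N.index := orderOf_dvd_natCard _
    rcases h with h | h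
    · rw [h] at h3
      exact h3.trans (by norm_num)
    · rwa [h] at h3
  have h3 : Nat.Coprime m 4 := by
    have : Nat.Coprime m (2 ^ 2) := Nat.Coprime.pow_right 2 (Nat.coprime_two_right.2 hm)
    simpa using this
  exact orderOf_eq_one_iff.1 (Nat.eq_one_of_dvd_coprimes h3 h1 h2)

variable {F : Type*} [Field F] {ι : Type} [Fintype ι] [DecidableEq ι]

/-- the standard assumptions -/
structure Data (Q : QuadraticForm F (ι → F)) : Prop where
  nd : (polarBilin Q).Nondegenerate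
  dim : 3 ≤ Fintype.card ι
  iso : ∃ u : ι → F, u ≠ 0 ∧ Q u = 0
  idx : (Cfsg.Omega F (⇑Q)).index = 2 ∨ (Cfsg.Omega F (⇑Q)).index = 4

theorem Data.ND {Q : QuadraticForm F (ι → F)} (h : Data Q) : Cfsg.Agent.H150.ND Q :=
  fun x hx => h.nd.1 x fun y => hx y

theorem center_sq {Q : QuadraticForm F (ι → F)} (h : Data Q) (g : Cfsg.Omega F (⇑Q))
    (hg : g ∈ Subgroup.center (Cfsg.Omega F (⇑Q))) : g ^ 2 = 1 := by
  have h1 := (OmegaCenter.mem_center_omega_iff Q h.nd h.dim h.iso g).1 hg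
  apply OmegaCenter.omega_ext
  have h2 : OmegaCenter.omegaMat (g ^ 2) = OmegaCenter.omegaMat g * OmegaCenter.omegaMat g := by
    rw [pow_two]
    rfl
  rw [h2]
  rcases h1 with h1 | h1 <;> rw [h1]
  · rw [mul_one]
    rfl
  · rw [neg_mul_neg, mul_one]
    rfl

theorem exists_isom {Q : QuadraticForm F (ι → F)} (h : Data Q) {m : ℕ} (hm : Odd m)
    (hg : ∃ g : POmega F (⇑Q), orderOf g = m) : ∃ X : Cfsg.isometryGroup F (⇑Q), orderOf X = m := by
  obtain ⟨X, hX⟩ := lift_odd _ (center_sq h) hm hg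
  exact ⟨X, by rw [Subgroup.orderOf_coe, hX]⟩

theorem exists_pomega {Q : QuadraticForm F (ι → F)} (h : Data Q) {m : ℕ} (hm : Odd m)
    (hg : ∃ X : Cfsg.isometryGroup F (⇑Q), orderOf X = m) : ∃ g : POmega F (⇑Q), orderOf g = m := by
  obtain ⟨X, hX⟩ := hg
  have h1 : X ∈ Cfsg.Omega F (⇑Q) := mem_of_odd _ h.idx hm (by rw [← hX, pow_orderOf_eq_one])
  exact desc_odd _ (center_sq h) hm ⟨⟨X, h1⟩, by rw [Subgroup.orderOf_mk, hX]⟩

/-- characteristic two: the centre is trivial -/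
theorem exists_isom_two (h2 : (2 : F) = 0) {Q : QuadraticForm F (ι → F)} (h : Data Q) {m : ℕ}
    (hg : ∃ g : POmega F (⇑Q), orderOf g = m) : ∃ X : Cfsg.isometryGroup F (⇑Q), orderOf X = m := by
  have hbot : Subgroup.center (Cfsg.Omega F (⇑Q)) = ⊥ := by
    rw [eq_bot_iff]
    intro g hg
    rw [Subgroup.mem_bot]
    have h1 := (OmegaCenter.mem_center_omega_iff Q h.nd h.dim h.iso g).1 hg
    apply OmegaCenter.omega_ext
    rcases h1 with h1 | h1
    · rw [h1]
      rfl
    · rw [h1]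
      have : (-1 : Matrix ι ι F) = 1 := by
        ext i j
        rw [Matrix.neg_apply]
        have h3 : ∀ a : F, -a = a := fun a => by linear_combination (-a) * h2
        exact h3 _
      rw [this]
      rfl
  obtain ⟨g, hg⟩ := hg
  obtain ⟨x, rfl⟩ := QuotientGroup.mk'_surjective (Subgroup.center (Cfsg.Omega F (⇑Q))) g
  refine ⟨x, ?_⟩
  rw [Subgroup.orderOf_coe, ← hg]
  symm
  apply orderOf_injective
  rw [← MonoidHom.ker_eq_bot_iff, QuotientGroup.ker_mk', hbot]

/-- an element of the isometry group as a linear map -/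
theorem exists_lin {Q : QuadraticForm F (ι → F)} (X : Cfsg.isometryGroup F (⇑Q)) :
    ∃ T : (ι → F) →ₗ[F] (ι → F), (∀ v, Q (T v) = Q v) ∧ ∀ j : ℕ, X ^ j = 1 ↔ T ^ j = 1 := by
  refine ⟨((isometryGroupEquiv Q X : OG Q) : (ι → F) ≃ₗ[F] (ι → F)), fun v => (isometryGroupEquiv Q X).2 v, fun j => ?_⟩
  rw [← og_pow_eq_one_iff (isometryGroupEquiv Q X) _ (fun v => rfl) j, ← map_pow]
  exact ((MulEquiv.map_eq_one_iff (isometryGroupEquiv Q)).symm)

/-- a linear isometry of finite order as an element of the isometry group -/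
theorem exists_of_lin {Q : QuadraticForm F (ι → F)} (T : (ι → F) →ₗ[F] (ι → F)) (hT : ∀ v, Q (T v) = Q v)
    {N : ℕ} (hN : 0 < N) (hTN : T ^ N = 1) : ∃ X : Cfsg.isometryGroup F (⇑Q), ∀ j : ℕ, X ^ j = 1 ↔ T ^ j = 1 := by
  obtain ⟨g, hg⟩ := exists_og Q T hN hTN hT
  refine ⟨(isometryGroupEquiv Q).symm g, fun j => ?_⟩
  rw [← og_pow_eq_one_iff g T hg j, ← map_pow]
  exact (MulEquiv.map_eq_one_iff (isometryGroupEquiv Q).symm)

end Cfsg.Agent.H390.Lift
end

-- part: H390/FactsOrth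
section
prune_inst 0x400000400000000018051600001c028600000000000000200001000c888c0000400021b0100000008000c450380000000000000000000000000000011800a0800002002040a004040011000000000000000000000000000000000000000000000000000
set_option linter.all false
open scoped Cfsg.Agent.FastGrp

-- part: H390/FactsDef
section
/-!
# The facts about symplectic and orthogonal groups (helper390)

`Facts L p q e n D`: `e` is the exponent with `R_e(q)` not adjacent to `3`, `n` the bound of the exponents `2 i` of the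
factors `q ^ (2 i) - 1` of the order, `D` the dimension.
-/

set_option autoImplicit false
set_option linter.unusedSectionVars false

namespace Cfsg.Agent.H390

open Module

/-- The facts about `L`; `p` the characteristic, `q` the order of the field. -/
structure Facts (L : Type*) [Group L] (p q e n D : ℕ) : Prop where
  f1 : ∀ r : ℕ, r.Prime → orderOf (q : ZMod r) = e → ∀ x : L, orderOf x ≠ r * 3
  f2 : ∀ r a : ℕ, r.Prime → orderOf (q : ZMod r) = e → r ^ a ∣ q ^ e - 1 → ∃ x : L, orderOf x = r ^ a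
  f3 : ∀ r : ℕ, r.Prime → r ∣ Nat.card L → r = p ∨ ∃ i, 1 ≤ i ∧ i ≤ n ∧ r ∣ q ^ (2 * i) - 1
  f4 : ∀ b : ℕ, (∃ x : L, orderOf x = p ^ (b + 1)) → p ^ b < D

/-- primes with `orderOf q = e ≥ 3` -/
theorem prim_cond {q r e : ℕ} (hr : r.Prime) (he : orderOf (q : ZMod r) = e) (h3 : 3 ≤ e) :
    r ≠ 2 ∧ r ≠ 3 ∧ ¬ r ∣ q ∧ e ∣ r - 1 ∧ e < r := by
  have := Fact.mk hr
  have hrq : ¬ r ∣ q := by
    intro h
    have h0 : (q : ZMod r) = 0 := (ZMod.natCast_eq_zero_iff q r).2 h
    have h1 : (q : ZMod r) ^ e = 1 := by rw [← he]; exact pow_orderOf_eq_one _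
    rw [h0, zero_pow (by omega)] at h1
    exact zero_ne_one h1
  have hd : e ∣ r - 1 := by rw [← he]; exact Cfsg.Agent.Lib.Zsigmondy.orderOf_dvd_pred hr hrq
  have hle := Nat.le_of_dvd (by have := hr.two_le; omega) hd
  refine ⟨by omega, by omega, hrq, hd, by omega⟩

theorem natCast_ne_zero {F : Type*} [Field F] [Finite F] {r : ℕ} (hr : r.Prime) (h : ¬ r ∣ Nat.card F) :
    ((r : ℕ) : F) ≠ 0 := by
  have : Fintype F := Fintype.ofFinite F
  obtain ⟨p, hp⟩ := CharP.exists F
  have hpp : p.Prime := CharP.char_is_prime F p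
  have := Fact.mk hpp
  rw [Ne, CharP.cast_eq_zero_iff F p, Nat.prime_dvd_prime_iff_eq hpp hr]
  rintro rfl
  obtain ⟨n, hn⟩ := FiniteField.card F p
  apply h
  rw [Nat.card_eq_fintype_card, hn.2]
  exact dvd_pow_self _ n.pos.ne'

/-- nilpotent endomorphisms -/
theorem pow_finrank_eq_zero {F V : Type*} [Field F] [AddCommGroup V] [Module F V] [FiniteDimensional F V]
    {φ : Module.End F V} (h : IsNilpotent φ) : φ ^ finrank F V = 0 := by
  have h1 := LinearMap.aeval_self_charpoly φ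
  rw [h.charpoly_eq_X_pow_finrank] at h1
  simpa only [_root_.map_pow, _root_.Polynomial.aeval_X] using h1

/-- unipotent elements: `p ^ b < dim V` -/
theorem unip_lt {F V : Type*} [Field F] [AddCommGroup V] [Module F V] [FiniteDimensional F V]
    (p : ℕ) [Fact p.Prime] [CharP F p] {T : Module.End F V} {b : ℕ} (h1 : T ^ p ^ (b + 1) = 1) (h2 : T ^ p ^ b ≠ 1) :
    p ^ b < finrank F V := by
  have hnt : Nontrivial V := by
    by_contra h
    rw [not_nontrivial_iff_subsingleton] at h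
    exact h2 (LinearMap.ext fun v => Subsingleton.elim _ _)
  have hc : CharP (Module.End F V) p := charP_of_injective_algebraMap (algebraMap F (Module.End F V)).injective p
  have hcomm : Commute T 1 := Commute.one_right T
  have h3 : (T - 1) ^ p ^ (b + 1) = 0 := by
    rw [sub_pow_char_pow_of_commute (p := p) _ hcomm, h1, one_pow, sub_self]
  have h4 : (T - 1) ^ p ^ b ≠ 0 := by
    rw [sub_pow_char_pow_of_commute (p := p) _ hcomm, one_pow, sub_ne_zero]
    exact h2
  by_contra h5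
  push Not at h5
  apply h4
  obtain ⟨c, hc⟩ := Nat.exists_eq_add_of_le h5
  rw [hc, pow_add, pow_finrank_eq_zero ⟨_, h3⟩, zero_mul]

/-- divisors of a product -/
theorem exists_of_dvd_prod {q r m : ℕ} (hr : r.Prime) (h : r ∣ ∏ i ∈ Finset.range m, (q ^ (2 * (i + 1)) - 1)) :
    ∃ i, 1 ≤ i ∧ i ≤ m ∧ r ∣ q ^ (2 * i) - 1 := by
  rw [Prime.dvd_finsetProd_iff hr.prime] at h
  obtain ⟨i, hi, h⟩ := h
  exact ⟨i + 1, by omega, by simpa using hi, h⟩

end Cfsg.Agent.H390
end

-- part: H390/FactsSp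
section
/-!
# The facts for `PSp_2n(q)` (helper390)
-/

set_option autoImplicit false
set_option linter.unusedSectionVars false

namespace Cfsg.Agent.H390

open Module Cfsg Matrix NonAdj

variable {F : Type*} [Field F]

/-- a power of a prime dividing a product of which it divides one factor -/
theorem pow_dvd_of_not_dvd {r a x y : ℕ} (hr : r.Prime) (h : r ^ a ∣ x * y) (hx : ¬ r ∣ x) : r ^ a ∣ y :=
  Nat.Coprime.dvd_of_dvd_mul_left (Nat.Coprime.pow_left a ((Nat.Prime.coprime_iff_not_dvd hr).2 hx)) h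

theorem pow_two_mul_sub_one {q n : ℕ} (hq : 1 ≤ q) : q ^ (2 * n) - 1 = (q ^ n - 1) * (q ^ n + 1) := by
  have h1 : 1 ≤ q ^ n := Nat.one_le_pow _ _ hq
  obtain ⟨c, hc⟩ := Nat.exists_eq_add_of_le h1
  rw [mul_comm 2 n, pow_mul, hc]
  have : (1 + c) ^ 2 = 1 + c * (c + 2) := by ring
  rw [this]
  have h2 : 1 + c + 1 = c + 2 := by ring
  rw [h2]
  simp only [_root_.add_tsub_cancel_left]

/-- `r ^ a ∣ q ^ (2 n) - 1` implies `r ^ a ∣ q ^ n + 1` -/
theorem pow_dvd_add_one {q n r a : ℕ} (hr : r.Prime) (hq : 1 ≤ q) (hn : 1 ≤ n) (he : orderOf (q : ZMod r) = 2 * n)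
    (h : r ^ a ∣ q ^ (2 * n) - 1) : r ^ a ∣ q ^ n + 1 := by
  rw [pow_two_mul_sub_one hq] at h
  apply pow_dvd_of_not_dvd hr h
  rw [Cfsg.Agent.Lib.Zsigmondy.dvd_pow_sub_one_iff hq, he]
  intro h1
  have := Nat.le_of_dvd (by omega) h1
  omega

theorem lift_char_two (h2 : (2 : F) = 0) {n m : ℕ} (h : ∃ x : PSp n F, orderOf x = m) :
    ∃ x : Matrix.symplecticGroup (Fin n) F, orderOf x = m := by
  have hbot : Subgroup.center (Matrix.symplecticGroup (Fin n) F) = ⊥ := by
    rw [eq_bot_iff]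
    intro g hg
    rw [Subgroup.mem_bot]
    have h3 : ∀ a : F, -a = a := fun a => by linear_combination (-a) * h2
    rcases ClassicalGeometry.SympInvolutions.center_eq hg with h1 | h1
    · exact Subtype.ext h1
    · apply Subtype.ext
      rw [h1]
      ext i j
      rw [Matrix.neg_apply]
      exact h3 _
  obtain ⟨x, rfl⟩ := h
  obtain ⟨g, rfl⟩ := QuotientGroup.mk'_surjective _ x
  refine ⟨g, ?_⟩
  symm
  apply orderOf_injective
  rw [← MonoidHom.ker_eq_bot_iff, QuotientGroup.ker_mk', hbot]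

/-- matrices as endomorphisms -/
theorem unip_lt_matrix {ι : Type*} [Fintype ι] [DecidableEq ι] (p : ℕ) [Fact p.Prime] [CharP F p]
    {A : Matrix ι ι F} {b : ℕ} (h1 : A ^ p ^ (b + 1) = 1) (h2 : A ^ p ^ b ≠ 1) : p ^ b < Fintype.card ι := by
  have h3 : ∀ j : ℕ, (Matrix.toLin' A) ^ j = Matrix.toLin' (A ^ j) := fun j => (Matrix.toLin'_pow A j).symm
  have h4 := unip_lt (F := F) (V := ι → F) p (T := Matrix.toLin' A) (b := b)
    (by rw [h3, h1, Matrix.toLin'_one]; rfl)
    (by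
      rw [h3]
      intro h
      apply h2
      apply Matrix.toLin'.injective
      rw [h, Matrix.toLin'_one]
      rfl)
  rwa [Module.finrank_fintype_fun_eq_card] at h4

theorem sp_facts [Fintype F] {n p : ℕ} (hn : 2 ≤ n) (hn2 : n = 2 → 3 ≤ Fintype.card F) (hp : p.Prime) (hc : CharP F p)
    {e : ℕ} (h3e : 3 ≤ e) (hη : IsEta e n) (hok : OK3 (Nat.card F) e) : Facts (PSp n F) p (Nat.card F) e n (2 * n) := by
  have := Fact.mk hp
  have hq : Nat.card F = Fintype.card F := Nat.card_eq_fintype_card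
  have hq1 : 1 < Nat.card F := Finite.one_lt_card
  refine ⟨?_, ?_, ?_, ?_⟩
  · intro r hr he x
    obtain ⟨hr2, hr3, hrq, -, -⟩ := prim_cond hr he h3e
    have hrF := natCast_ne_zero (F := F) hr hrq
    by_cases h3 : ((3 : ℕ) : F) = 0
    · intro hx
      have h3p : p = 3 := by
        rw [CharP.cast_eq_zero_iff F p] at h3
        exact ((Nat.prime_dvd_prime_iff_eq hp Nat.prime_three).1 h3)
      subst h3p
      have hrG : r ∣ Nat.card (PSp n F) :=
        ((Dvd.intro 3 rfl).trans (dvd_of_eq hx.symm)).trans (orderOf_dvd_natCard x)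
      rw [hq] at he
      have h1 := (Cfsg.Agent.S2472.result (F := F) 3 n hn hn2 r hr hr2 hr3 hrG e n he.symm hη).2 (by omega)
      exact h1 ⟨x, hx⟩
    · exact psp_no_three hn hn2 hr hr2 hr3 hrF h3 he hη hok x
  · intro r a hr he ha
    obtain ⟨hr2, hr3, hrq, -, -⟩ := prim_cond hr he h3e
    have hodd : Odd (r ^ a) := (hr.odd_of_ne_two hr2).pow
    apply Lift.desc_odd _ (fun z hz => Cfsg.Agent.H376.SpEmb.center_pow z hz) hodd
    rcases hη with ⟨-, h⟩ | ⟨-, h⟩
    · subst h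
      exact Cfsg.Agent.H376.SpEmb.exists_of_dvd (by
        have : 1 < Nat.card F ^ n := Nat.one_lt_pow (by omega) hq1
        omega) ha (Cfsg.Agent.H376.SpEmb.exists_minus F n (by omega))
    · subst h
      exact Cfsg.Agent.H376.SpEmb.exists_of_dvd (by omega) (pow_dvd_add_one hr hq1.le (by omega) he ha)
        (Cfsg.Agent.H376.SpEmb.exists_plus F n (by omega))
  · intro r hr hrL
    have h1 : r ∣ Nat.card (Matrix.symplecticGroup (Fin n) F) :=
      hrL.trans (Subgroup.card_quotient_dvd_card _)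
    rw [Cfsg.Agent.S0245.result (F := F) rfl n, hr.dvd_mul] at h1
    rcases h1 with h1 | h1
    · left
      have h2 := hr.dvd_of_dvd_pow h1
      obtain ⟨f, hf⟩ := FiniteField.card F p
      rw [hf.2] at h2
      exact (Nat.prime_dvd_prime_iff_eq hr hp).1 (hr.dvd_of_dvd_pow h2)
    · right
      rw [hq]
      exact exists_of_dvd_prod hr h1
  · intro b hb
    have h1 : ∃ x : Matrix.symplecticGroup (Fin n) F, orderOf x = p ^ (b + 1) := by
      by_cases h2 : (2 : F) = 0
      · exact lift_char_two h2 hb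
      · apply Lift.lift_odd _ (fun z hz => Cfsg.Agent.H376.SpEmb.center_pow z hz) _ hb
        apply Odd.pow
        apply hp.odd_of_ne_two
        rintro rfl
        exact h2 (by exact_mod_cast CharP.cast_eq_zero F 2)
    obtain ⟨x, hx⟩ := h1
    have h2 := unip_lt_matrix (F := F) p (A := (x : Matrix _ _ F)) (b := b)
      (by
        have := pow_orderOf_eq_one x
        rw [hx] at this
        exact congrArg Subtype.val this)
      (by
        intro h
        have h3 : x ^ p ^ b = 1 := Subtype.ext h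
        have h4 := orderOf_dvd_of_pow_eq_one h3
        rw [hx] at h4
        have := Nat.le_of_dvd (pow_pos hp.pos _) h4
        have h5 : p ^ b < p ^ (b + 1) := Nat.pow_lt_pow_right hp.one_lt (by omega)
        omega)
    simpa only [two_mul, _root_.gt_iff_lt, _root_.Fintype.card_sum, _root_.Fintype.card_fin] using h2

end Cfsg.Agent.H390
end

-- part: H390/Torus
section
/-!
# Elements of order `r ^ a` in orthogonal groups (helper390)

`r` a primitive prime divisor of `q ^ e - 1`, `r ^ a ∣ q ^ e - 1`: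

* `exists_even`: `e = 2 η` even, `x` an isometry of order `r`, `dim range (x - 1) = e`: an isometry of order `d`
  for all `d ∣ q ^ η + 1`;
* `exists_slw`: `e ≤ n`: an element of `SL_n(q)`.
-/

set_option autoImplicit false
set_option linter.unusedSectionVars false

namespace Cfsg.Agent.H390.Torus

open Module Cfsg Cfsg.Agent.H150 QuadraticMap
open Cfsg.Agent.LieClassical.OrthCount

variable {F : Type*} [Field F] {V : Type*} [AddCommGroup V] [Module F V] [FiniteDimensional F V]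

/-- extension of an isometry of `M` by the identity on an orthogonal complement -/
theorem exists_extend (Q : QuadraticForm F V) {C M : Submodule F V} (h : IsCompl C M)
    (horth : ∀ c ∈ C, ∀ m ∈ M, QuadraticMap.polar Q c m = 0) (g : M ≃ₗ[F] M) (hg : ∀ v, Q (g v : V) = Q (v : V)) :
    ∃ T : V →ₗ[F] V, (∀ v, Q (T v) = Q v) ∧ ∀ j : ℕ, T ^ j = 1 ↔ g ^ j = 1 := by
  let e := Submodule.prodEquivOfIsCompl C M h
  let T0 : (C × M) →ₗ[F] (C × M) := LinearMap.prodMap LinearMap.id (g : M →ₗ[F] M)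
  let T : V →ₗ[F] V := (e : (C × M) →ₗ[F] V) ∘ₗ T0 ∘ₗ (e.symm : V →ₗ[F] (C × M))
  have he : ∀ u : C × M, e u = (u.1 : V) + (u.2 : V) := fun u => by
    simp [e, Submodule.coe_prodEquivOfIsCompl']
  have hT : ∀ u : C × M, T (e u) = (u.1 : V) + (g u.2 : V) := by
    intro u
    change e (T0 (e.symm (e u))) = _
    rw [e.symm_apply_apply, he]
    rfl
  have hQ : ∀ (c : C) (m : M), Q ((c : V) + (m : V)) = Q c + Q m := by
    intro c m
    have h1 := horth c c.2 m m.2
    rw [QuadraticMap.polar] at h1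
    linear_combination h1
  have hpow : ∀ (j : ℕ) (u : C × M), (T ^ j) (e u) = (u.1 : V) + ((g ^ j) u.2 : V) := by
    intro j
    induction j with
    | zero =>
      intro u
      rw [pow_zero, pow_zero, Module.End.one_apply, he]
      rfl
    | succ j ih =>
      intro u
      rw [pow_succ, Module.End.mul_apply, hT]
      have h1 : (u.1 : V) + (g u.2 : V) = e (u.1, g u.2) := by rw [he]
      rw [h1, ih]
      rfl
  refine ⟨T, ?_, ?_⟩
  · intro v
    obtain ⟨u, rfl⟩ := e.surjective v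
    rw [hT, he, hQ, hQ, hg]
  · intro j
    constructor
    · intro hj
      ext m
      have h1 := hpow j (0, m)
      rw [hj, Module.End.one_apply, he] at h1
      have h2 : ((g ^ j) m : V) = (m : V) := by
        have : ((0 : C) : V) = 0 := rfl
        simp only [this, zero_add] at h1
        exact h1.symm
      exact h2
    · intro hj
      ext v
      obtain ⟨u, rfl⟩ := e.surjective v
      rw [hpow, hj, Module.End.one_apply, he]
      rfl

/-- a torus of order `q ^ η + 1` -/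
theorem exists_even [Finite F] (Q : QuadraticForm F V) (hQ : ND Q) {r : ℕ} (hr : r.Prime) (hr2 : r ≠ 2)
    (hrF : ((r : ℕ) : F) ≠ 0) {x : V →ₗ[F] V} (hx : x ^ r = 1) (hxQ : ∀ v, Q (x v) = Q v) {η : ℕ} (hη : 1 ≤ η)
    (he : orderOf ((Nat.card F : ℕ) : ZMod r) = 2 * η) (hd : finrank F (LinearMap.range (x - 1)) = 2 * η) {d : ℕ}
    (hdd : d ∣ Nat.card F ^ η + 1) :
    ∃ T : V →ₗ[F] V, (∀ v, Q (T v) = Q v) ∧ ∀ j : ℕ, T ^ j = 1 ↔ d ∣ j := by
  have hfinV : Finite V := Module.finite_of_finite F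
  have hq1 : 1 < Nat.card F := Finite.one_lt_card
  have hcompl := isCompl_fix hrF x hx
  have hxM := (range_inv (x := x) (y := x) (fun v => rfl)).1
  obtain ⟨-, hM, -, -, hfpf, -⟩ := Dec.dec Q hQ (hr.odd_of_ne_two hr2) hrF x hx hxQ hxM
  set M := LinearMap.range (x - 1) with hMdef
  set C := LinearMap.ker (x - 1) with hCdef
  have hxB : ∀ v w, QuadraticMap.polarBilin Q (x v) (x w) = QuadraticMap.polarBilin Q v w :=
    fun v w => polar_isom Q x hxQ v w
  have horth : ∀ c ∈ C, ∀ m ∈ M, QuadraticMap.polar Q c m = 0 := by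
    intro c hc m hm
    obtain ⟨u, rfl⟩ := hm
    rw [hCdef, LinearMap.mem_ker, LinearMap.sub_apply, sub_eq_zero, Module.End.one_apply] at hc
    have h1 := hxB c u
    rw [hc] at h1
    change QuadraticMap.polarBilin Q c ((x - 1) u) = 0
    rw [LinearMap.sub_apply, map_sub, Module.End.one_apply, h1]
    exact sub_self _
  -- the restriction as an equivalence
  set xM : M →ₗ[F] M := x.restrict hxM with hxMdef
  have hxM1 : xM ^ r = 1 := restrict_pow_eq_one hxM hx
  have hr0 : r ≠ 0 := hr.ne_zero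
  have hinv1 : xM * xM ^ (r - 1) = 1 := by rw [_root_.mul_pow_sub_one hr0, hxM1]
  have hinv2 : xM ^ (r - 1) * xM = 1 := by rw [_root_.pow_sub_one_mul hr0, hxM1]
  let X : M ≃ₗ[F] M := LinearEquiv.ofLinearMap xM (xM ^ (r - 1)) hinv1 hinv2
  have hXc : ∀ j : ℕ, ((X ^ j : M ≃ₗ[F] M) : M →ₗ[F] M) = xM ^ j := by
    intro j
    induction j with
    | zero => rfl
    | succ j ih => rw [pow_succ, pow_succ, ← ih]; rfl
  have hXp : X ^ r = 1 := by
    apply LinearEquiv.toLinearMap_injective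
    rw [hXc, hxM1]
    rfl
  have hMnt : Nontrivial M := by
    rw [← Module.finrank_pos_iff (R := F), hd]
    omega
  have hX1 : X ≠ 1 := by
    intro h
    obtain ⟨m, hm⟩ := exists_ne (0 : M)
    apply hm
    apply hfpf
    have h1 := LinearEquiv.congr_fun h m
    exact h1
  have hN : Nat.card F ^ η * Nat.card F ^ η = Nat.card M := by
    rw [Module.natCard_eq_pow_finrank (K := F) (V := M), hd, ← pow_add, two_mul]
  have hdvd : ∀ m : ℕ, r ∣ Nat.card F ^ m - 1 ↔ 2 * η ∣ m := by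
    intro m
    rw [Cfsg.Agent.Lib.Zsigmondy.dvd_pow_sub_one_iff hq1.le, he]
  obtain ⟨g, hg, -, -, hgQ⟩ := Cfsg.Agent.H371.Alg.exists_torus_quad (V := M)
    (fun v w => QuadraticMap.polar Q (v : V) (w : V)) (fun v => Q (v : V))
    (fun u v w => by
      change QuadraticMap.polar Q ((u : V) + (v : V)) (w : V) = _
      rw [QuadraticMap.polar_add_left])
    (fun c v w => by
      change QuadraticMap.polar Q (c • (v : V)) (w : V) = _
      rw [QuadraticMap.polar_smul_left]; rfl)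
    (fun v w => QuadraticMap.polar_comm Q _ _)
    (fun w hw => hM w fun v => by
      have := hw v
      rw [QuadraticMap.polar_comm] at this
      exact this)
    (fun v w => by
      change Q ((v : V) + (w : V)) = Q (v : V) + Q (w : V) + QuadraticMap.polar Q (v : V) (w : V)
      rw [QuadraticMap.polar]; ring)
    (fun c v => by
      change Q (c • (v : V)) = _
      rw [QuadraticMap.map_smul, smul_eq_mul, pow_two])
    hr hr2 X hXp hX1 (fun v => hxQ v)
    (by rw [hd, hdvd]) (fun d hd0 hdlt => by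
      rw [hdvd]
      intro h
      have := Nat.le_of_dvd hd0 h
      omega) hN
  obtain ⟨c, hc⟩ := hdd
  have hc0 : c ≠ 0 := by
    rintro rfl
    rw [mul_zero] at hc
    omega
  obtain ⟨T, hTQ, hT⟩ := exists_extend Q hcompl horth (g ^ c) (by
    intro v
    have : ∀ (j : ℕ) (v : M), Q (((g ^ j) v : M) : V) = Q (v : V) := by
      intro j
      induction j with
      | zero => intro v; rfl
      | succ j ih =>
        intro v
        rw [pow_succ]
        change Q (((g ^ j) (g v) : M) : V) = _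
        rw [ih]
        exact hgQ v
    exact this c v)
  refine ⟨T, hTQ, fun j => ?_⟩
  rw [hT, ← orderOf_dvd_iff_pow_eq_one, orderOf_pow' g hc0, hg, hc, Nat.gcd_mul_left_left,
    Nat.mul_div_cancel _ (Nat.pos_of_ne_zero hc0)]

/-! ### `SL` -/

/-- `SL_m` in `SL_(m+r)` -/
def blk (m r : ℕ) : Matrix.SpecialLinearGroup (Fin m) F →* Matrix.SpecialLinearGroup (Fin m ⊕ Fin r) F where
  toFun A := ⟨Matrix.fromBlocks A.1 0 0 1, by rw [Matrix.det_fromBlocks_zero₂₁, A.2, Matrix.det_one, mul_one]⟩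
  map_one' := by
    apply Subtype.ext
    exact Matrix.fromBlocks_one
  map_mul' A B := by
    apply Subtype.ext
    change Matrix.fromBlocks (A.1 * B.1) 0 0 1 = Matrix.fromBlocks A.1 0 0 1 * Matrix.fromBlocks B.1 0 0 1
    rw [Matrix.fromBlocks_multiply]
    simp only [_root_.Matrix.mul_zero, _root_.add_zero, _root_.Matrix.mul_one, _root_.Matrix.zero_mul, _root_.mul_one, _root_.zero_add]

theorem blk_injective (m r : ℕ) : Function.Injective (blk (F := F) m r) := by
  intro A B h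
  apply Subtype.ext
  have h1 : Matrix.fromBlocks A.1 0 0 1 = Matrix.fromBlocks B.1 0 0 (1 : Matrix (Fin r) (Fin r) F) :=
    congrArg Subtype.val h
  exact (Matrix.fromBlocks_inj.1 h1).1

/-- elements of `SL_n(q)` of order `d ∣ q ^ e - 1`, `e ≤ n` -/
theorem exists_SL_le [Finite F] {e n : ℕ} (he : e ≠ 0) (hen : e ≤ n) {d : ℕ} (hd : d ∣ Nat.card F ^ e - 1)
    (hc : Nat.Coprime (Nat.card F - 1) d) : ∃ A : Matrix.SpecialLinearGroup (Fin n) F, orderOf A = d := by
  obtain ⟨A, hA⟩ := Cfsg.Agent.H376.PrimeOrd.exists_SL (F := F) e he d hd hc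
  obtain ⟨k, rfl⟩ := Nat.exists_eq_add_of_le hen
  refine ⟨Cfsg.Agent.H376.WordEmb.reidx finSumFinEquiv (blk e k A), ?_⟩
  rw [orderOf_injective _ (Cfsg.Agent.H376.WordEmb.reidx_injective _), orderOf_injective _ (blk_injective _ _), hA]

end Cfsg.Agent.H390.Torus
end

-- part: H390/FactsOrth
section
/-!
# The facts for the simple orthogonal groups (helper390)
-/

set_option autoImplicit false
set_option linter.unusedSectionVars false

namespace Cfsg.Agent.H390

open Module Cfsg Matrix NonAdj QuadraticMap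
open Cfsg.Agent.LieClassical.OrthCount Cfsg.Agent.LieClassical.OmegaReindex Cfsg.Agent.LieClassical

variable {F : Type*} [Field F]

section Gen

variable {ι : Type} [Fintype ι] [DecidableEq ι]

theorem data_of [Fintype F] (Q : QuadraticForm F (ι → F)) (hQ : (polarBilin Q).Nondegenerate)
    (h3 : 3 ≤ Fintype.card ι) (hiso : ∃ u : ι → F, u ≠ 0 ∧ Q u = 0) (h4 : Fintype.card F ≠ 2 ∨ Fintype.card ι ≠ 4) :
    Lift.Data Q := by
  refine ⟨hQ, h3, hiso, ?_⟩
  by_cases h2 : (2 : F) = 0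
  · left
    have hch : CharP F 2 := CharTwo.of_one_ne_zero_of_two_eq_zero one_ne_zero h2
    exact index_omega_of_fin rfl (fun Q' hQ' => Cfsg.Agent.S0789.result (by omega) Q' hQ' h4) Q hQ
  · right
    exact index_omega_of_fin rfl (fun Q' hQ' => Cfsg.Agent.S0788.result h2 (by omega) Q' hQ') Q hQ

theorem exists_lin_of_order {Q : QuadraticForm F (ι → F)} (hD : Lift.Data Q) {m : ℕ} (hm : Odd m)
    (hg : ∃ g : POmega F (⇑Q), orderOf g = m) :
    ∃ T : (ι → F) →ₗ[F] (ι → F), (∀ v, Q (T v) = Q v) ∧ ∀ j : ℕ, T ^ j = 1 ↔ m ∣ j := by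
  obtain ⟨X, hX⟩ := Lift.exists_isom hD hm hg
  obtain ⟨T, h1, h2⟩ := Lift.exists_lin X
  exact ⟨T, h1, fun j => by rw [← h2, ← orderOf_dvd_iff_pow_eq_one, hX]⟩

theorem exists_pomega_of_lin {Q : QuadraticForm F (ι → F)} (hD : Lift.Data Q) {m : ℕ} (hm : Odd m)
    (T : (ι → F) →ₗ[F] (ι → F)) (hT : ∀ v, Q (T v) = Q v) (hj : ∀ j : ℕ, T ^ j = 1 ↔ m ∣ j) :
    ∃ g : POmega F (⇑Q), orderOf g = m := by
  obtain ⟨X, hX⟩ := Lift.exists_of_lin T hT hm.pos ((hj m).2 dvd_rfl)
  refine Lift.exists_pomega hD hm ⟨X, ?_⟩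
  apply Nat.dvd_antisymm
  · apply orderOf_dvd_of_pow_eq_one
    rw [hX, hj]
  · rw [← hj, ← hX]
    exact pow_orderOf_eq_one X

theorem orth_f4 [Fintype F] {Q : QuadraticForm F (ι → F)} (hD : Lift.Data Q) {p : ℕ} (hp : p.Prime) (hc : CharP F p)
    {b : ℕ} (h : ∃ x : POmega F (⇑Q), orderOf x = p ^ (b + 1)) : p ^ b < Fintype.card ι := by
  have := Fact.mk hp
  have h1 : ∃ X : Cfsg.isometryGroup F (⇑Q), orderOf X = p ^ (b + 1) := by
    by_cases h2 : (2 : F) = 0
    · exact Lift.exists_isom_two h2 hD h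
    · refine Lift.exists_isom hD ?_ h
      apply Odd.pow
      apply hp.odd_of_ne_two
      rintro rfl
      exact h2 (by exact_mod_cast CharP.cast_eq_zero F 2)
  obtain ⟨X, hX⟩ := h1
  obtain ⟨T, -, h2⟩ := Lift.exists_lin X
  have h3 := unip_lt (F := F) (V := ι → F) p (T := T) (b := b)
    (by rw [← h2, ← hX, pow_orderOf_eq_one]) (by
      rw [Ne, ← h2, ← orderOf_dvd_iff_pow_eq_one, hX]
      intro h4
      have := Nat.le_of_dvd (pow_pos hp.pos _) h4
      have h5 : p ^ b < p ^ (b + 1) := Nat.pow_lt_pow_right hp.one_lt (by omega)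
      omega)
  rwa [Module.finrank_fintype_fun_eq_card] at h3

theorem orth_f1 {Q : QuadraticForm F (ι → F)} (hD : Lift.Data Q) {r : ℕ} (hr : r.Prime) (hr2 : r ≠ 2)
    (h : ∀ T : (ι → F) →ₗ[F] (ι → F), (∀ v, Q (T v) = Q v) → (∀ j : ℕ, T ^ j = 1 ↔ r * 3 ∣ j) → False)
    (x : POmega F (⇑Q)) : orderOf x ≠ r * 3 := by
  intro hx
  obtain ⟨T, h1, h2⟩ := exists_lin_of_order hD ((hr.odd_of_ne_two hr2).mul (by decide)) ⟨x, hx⟩
  exact h T h1 h2

theorem orth_f2_even [Fintype F] {Q : QuadraticForm F (ι → F)} (hD : Lift.Data Q) {r a e η : ℕ} (hr : r.Prime)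
    (h3e : 3 ≤ e) (he : orderOf ((Nat.card F : ℕ) : ZMod r) = e) (hη : e = 2 * η) (hdim : Fintype.card ι < 4 * η)
    (hrL : r ∣ Nat.card (POmega F (⇑Q))) (ha : r ^ a ∣ Nat.card F ^ e - 1) :
    ∃ x : POmega F (⇑Q), orderOf x = r ^ a := by
  subst hη
  have := Fact.mk hr
  have hq1 : 1 < Nat.card F := Finite.one_lt_card
  obtain ⟨hr2, hr3, hrq, -, -⟩ := prim_cond hr he h3e
  have hodd : Odd r := hr.odd_of_ne_two hr2
  have hrF := natCast_ne_zero (F := F) hr hrq
  have hfin : Finite (POmega F (⇑Q)) := inferInstance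
  obtain ⟨x, hx⟩ := exists_prime_orderOf_dvd_card' r hrL
  obtain ⟨T, hTQ, hT⟩ := exists_lin_of_order hD hodd ⟨x, hx⟩
  have hTr : T ^ r = 1 := (hT r).2 dvd_rfl
  have hT1 : T ≠ 1 := by
    intro h
    have h1 := (hT 1).1 (by rw [h, one_pow])
    exact hr.one_lt.ne' (Nat.dvd_one.1 h1)
  have hd := finrank_range_eq Q hD.ND hr hr2 hrF hTr hT1 hTQ he (m := η) (Or.inr ⟨⟨η, by omega⟩, rfl⟩)
    (by rw [Module.finrank_fintype_fun_eq_card]; exact hdim)
  obtain ⟨T', h1, h2⟩ := Torus.exists_even Q hD.ND hr hr2 hrF hTr hTQ (by omega) he hd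
    (pow_dvd_add_one hr hq1.le (by omega) he ha)
  exact exists_pomega_of_lin hD hodd.pow T' h1 h2

theorem orth_f2_odd [Fintype F] {Q : QuadraticForm F (ι → F)} (hD : Lift.Data Q) {r a e n : ℕ} (hr : r.Prime)
    (h3e : 3 ≤ e) (he : orderOf ((Nat.card F : ℕ) : ZMod r) = e) (hen : e ≤ n)
    (hφ : ∃ φ : Matrix.SpecialLinearGroup (Fin n) F →* Cfsg.isometryGroup F (⇑Q), Function.Injective φ)
    (ha : r ^ a ∣ Nat.card F ^ e - 1) :
    ∃ x : POmega F (⇑Q), orderOf x = r ^ a := by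
  have hq1 : 1 < Nat.card F := Finite.one_lt_card
  obtain ⟨hr2, hr3, hrq, -, -⟩ := prim_cond hr he h3e
  have hodd : Odd r := hr.odd_of_ne_two hr2
  obtain ⟨φ, hφ⟩ := hφ
  have hc : Nat.Coprime (Nat.card F - 1) (r ^ a) := by
    apply Nat.Coprime.pow_right
    rw [Nat.coprime_comm, Nat.Prime.coprime_iff_not_dvd hr]
    intro h
    have h1 : r ∣ Nat.card F ^ 1 - 1 := by rwa [pow_one]
    rw [Cfsg.Agent.Lib.Zsigmondy.dvd_pow_sub_one_iff hq1.le, he] at h1
    have := Nat.le_of_dvd (by omega) h1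
    omega
  obtain ⟨A, hA⟩ := Torus.exists_SL_le (F := F) (e := e) (n := n) (by omega) hen ha hc
  exact Lift.exists_pomega hD hodd.pow ⟨φ A, by rw [orderOf_injective φ hφ, hA]⟩

end Gen

theorem dvd_of_gcd_mul {r c N T : ℕ} (hr : r.Prime) (hr2 : r ≠ 2) (h : Nat.gcd 4 c * N = T) (hT : r ∣ T) : r ∣ N := by
  rw [← h] at hT
  rcases hr.dvd_mul.1 hT with h1 | h1
  · have h2 : r ∣ 2 ^ 2 := (h1.trans (Nat.gcd_dvd_left _ _))
    exact absurd ((Nat.prime_dvd_prime_iff_eq hr Nat.prime_two).1 (hr.dvd_of_dvd_pow h2)) hr2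
  · exact h1

theorem dvd_prod {q r m i : ℕ} (h1 : 1 ≤ i) (h2 : i ≤ m) (h : r ∣ q ^ (2 * i) - 1) :
    r ∣ ∏ i ∈ Finset.range m, (q ^ (2 * (i + 1)) - 1) := by
  refine h.trans ?_
  have h3 := Finset.dvd_prod_of_mem (fun i => q ^ (2 * (i + 1)) - 1) (Finset.mem_range.2 (show i - 1 < m by omega))
  simp only [show i - 1 + 1 = i by omega] at h3
  exact h3

theorem dvd_of_orderOf {q r e j : ℕ} (hq : 1 ≤ q) (he : orderOf (q : ZMod r) = e) (h : e ∣ j) : r ∣ q ^ j - 1 := by
  rw [Cfsg.Agent.Lib.Zsigmondy.dvd_pow_sub_one_iff hq, he]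
  exact h

theorem dvd_card_pow {F : Type*} [Field F] [Fintype F] {p r : ℕ} (hp : p.Prime) (hc : CharP F p) (hr : r.Prime) {k : ℕ}
    (h : r ∣ Fintype.card F ^ k) : r = p := by
  have := Fact.mk hp
  have h2 := hr.dvd_of_dvd_pow h
  obtain ⟨f, hf⟩ := FiniteField.card F p
  rw [hf.2] at h2
  exact (Nat.prime_dvd_prime_iff_eq hr hp).1 (hr.dvd_of_dvd_pow h2)

theorem two_ne_zero_of_odd [Fintype F] (h : Odd (Fintype.card F)) : (2 : F) ≠ 0 := by
  intro h2
  have hch : CharP F 2 := CharTwo.of_one_ne_zero_of_two_eq_zero one_ne_zero h2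
  have h3 := FiniteField.even_card_of_char_two (F := F) (ringChar.eq F 2)
  have := Nat.odd_iff.1 h
  omega

/-! ### type `B` -/

theorem odd_facts [Fintype F] {n p : ℕ} (hn : 3 ≤ n) (hodd : Odd (Fintype.card F)) (hp : p.Prime) (hc : CharP F p)
    {e : ℕ} (h3e : 3 ≤ e) (hη : IsEta e n) (hok : OK3 (Nat.card F) e) :
    Facts (POmega F (quadFormOdd n F)) p (Nat.card F) e n (2 * n + 1) := by
  have := Fact.mk hp
  have h2 := two_ne_zero_of_odd hodd
  have hq : Nat.card F = Fintype.card F := Nat.card_eq_fintype_card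
  have hq1 : 1 < Nat.card F := Finite.one_lt_card
  have hsp := sp_facts (F := F) (n := n) (by omega) (by omega) hp hc h3e hη hok
  have hcard : Fintype.card (Unit ⊕ (Fin n ⊕ Fin n)) = 2 * n + 1 := by simp only [_root_.Fintype.card_sum, _root_.Fintype.card_unique, _root_.Fintype.card_fin]; ring
  have hord := Cfsg.Agent.S0292.result (F := F) rfl hodd n hn
  have h474 := fun r s => Cfsg.Agent.S2474.result (F := F) hodd n hn r s
  have hD : Lift.Data (quadOdd n F) := data_of _ (quadOdd_nondegenerate h2) (by rw [hcard]; omega)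
    (quadOdd_isotropic (by omega)) (Or.inr (by rw [hcard]; omega))
  rw [← coe_quadOdd] at hord h474 ⊢
  refine ⟨?_, ?_, ?_, ?_⟩
  · intro r hr he x hx
    obtain ⟨hr2, hr3, hrq, -, -⟩ := prim_cond hr he h3e
    obtain ⟨y, hy⟩ := (h474 r 3 hr Nat.prime_three hr3).1 ⟨x, hx⟩
    exact hsp.f1 r hr he y hy
  · intro r a hr he ha
    obtain ⟨hr2, hr3, hrq, -, -⟩ := prim_cond hr he h3e
    rcases hη with ⟨-, h⟩ | ⟨-, h⟩
    · subst h
      refine orth_f2_odd hD hr h3e he le_rfl ?_ ha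
      rw [coe_quadOdd]
      exact Cfsg.Agent.H376.WordEmb.sl_odd n
    · refine orth_f2_even hD hr h3e he h.symm (by rw [hcard]; omega) ?_ ha
      have h3 : r ∣ 2 * Nat.card (POmega F ⇑(quadOdd n F)) := by
        rw [hord]
        apply Dvd.dvd.mul_left
        exact dvd_prod (i := n) (by omega) le_rfl (by rw [← hq]; exact dvd_of_orderOf hq1.le he (by rw [h]))
      rcases hr.dvd_mul.1 h3 with h4 | h4
      · exact absurd ((Nat.prime_dvd_prime_iff_eq hr Nat.prime_two).1 h4) hr2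
      · exact h4
  · intro r hr hrL
    have h1 : r ∣ 2 * Nat.card (POmega F ⇑(quadOdd n F)) := Dvd.dvd.mul_left hrL _
    rw [hord, hr.dvd_mul] at h1
    rcases h1 with h1 | h1
    · exact Or.inl (dvd_card_pow hp hc hr h1)
    · right
      rw [hq]
      exact exists_of_dvd_prod hr h1
  · intro b hb
    have := orth_f4 hD hp hc hb
    rwa [hcard] at this

/-! ### zero counts -/

theorem pow_eq_neg_one {q r n : ℕ} (hr : r.Prime) (hn : 1 ≤ n) (he : orderOf (q : ZMod r) = 2 * n) :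
    (q : ZMod r) ^ n = -1 := by
  have := Fact.mk hr
  have h1 : ((q : ZMod r) ^ n) ^ 2 = 1 := by
    rw [← pow_mul, mul_comm, ← he, pow_orderOf_eq_one]
  rcases sq_eq_one_iff_of_ne_zero h1 with h | h
  · exfalso
    have h2 := orderOf_dvd_of_pow_eq_one h
    rw [he] at h2
    have := Nat.le_of_dvd (by omega) h2
    omega
  · exact h
where
  sq_eq_one_iff_of_ne_zero {K : Type} [Field K] {x : K} (h : x ^ 2 = 1) : x = 1 ∨ x = -1 := by
    have h1 : (x - 1) * (x + 1) = 0 := by linear_combination h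
    rcases mul_eq_zero.1 h1 with h2 | h2
    · left; linear_combination h2
    · right; linear_combination h2

theorem zeros_plus_irr {q r n : ℕ} (hr : r.Prime) (hq : 1 ≤ q) (hn : 2 ≤ n) (he : orderOf (q : ZMod r) = 2 * (n - 1)) :
    q ^ (2 * n - 1) + q ^ n - q ^ (n - 1) ≡ 1 [MOD r] := by
  obtain ⟨m, rfl⟩ : ∃ m, n = m + 2 := ⟨n - 2, by omega⟩
  have h := pow_eq_neg_one hr (by omega) he
  have h1 : q ^ (m + 1) ≤ q ^ (m + 2) := Nat.pow_le_pow_right hq (by omega)
  rw [← ZMod.natCast_eq_natCast_iff]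
  rw [show m + 2 - 1 = m + 1 by omega] at h ⊢
  rw [show 2 * (m + 2) - 1 = (m + 1) + (m + 1) + 1 by omega]
  rw [Nat.cast_sub (by omega)]
  push_cast
  rw [pow_succ, pow_add, h, show m + 2 = (m + 1) + 1 by omega, pow_succ, h]
  ring

theorem zeros_plus_odd {q r n : ℕ} (hq : 1 ≤ q) (hn : 2 ≤ n) (he : orderOf (q : ZMod r) = n - 1) :
    q ^ (2 * n - 1) + q ^ n - q ^ (n - 1) ≡ 2 * q - 1 [MOD r] := by
  obtain ⟨m, rfl⟩ : ∃ m, n = m + 2 := ⟨n - 2, by omega⟩
  have h := pow_orderOf_eq_one (q : ZMod r)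
  rw [he] at h
  have h1 : q ^ (m + 1) ≤ q ^ (m + 2) := Nat.pow_le_pow_right hq (by omega)
  rw [← ZMod.natCast_eq_natCast_iff]
  rw [show m + 2 - 1 = m + 1 by omega] at h ⊢
  rw [show 2 * (m + 2) - 1 = (m + 1) + (m + 1) + 1 by omega]
  rw [Nat.cast_sub (by omega), Nat.cast_sub (by omega)]
  push_cast
  rw [pow_succ, pow_add, h, show m + 2 = (m + 1) + 1 by omega, pow_succ, h]
  ring

theorem zeros_minus_irr {q r n : ℕ} (hr : r.Prime) (hq : 2 ≤ q) (hn : 2 ≤ n) (he : orderOf (q : ZMod r) = 2 * (n - 1)) :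
    q ^ (2 * n - 1) + q ^ (n - 1) - q ^ n ≡ 2 * q - 1 [MOD r] := by
  obtain ⟨m, rfl⟩ : ∃ m, n = m + 2 := ⟨n - 2, by omega⟩
  have h := pow_eq_neg_one hr (by omega) he
  have h1 : q ^ (m + 2) ≤ q ^ (2 * (m + 2) - 1) := Nat.pow_le_pow_right (by omega) (by omega)
  rw [← ZMod.natCast_eq_natCast_iff]
  rw [Nat.cast_sub (by omega), Nat.cast_sub (by omega)]
  rw [show m + 2 - 1 = m + 1 by omega] at h ⊢
  rw [show 2 * (m + 2) - 1 = (m + 1) + (m + 1) + 1 by omega]
  push_cast
  rw [pow_succ, pow_add, h, show m + 2 = (m + 1) + 1 by omega, pow_succ, h]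
  ring

/-! ### type `D` -/

theorem plus_facts [Fintype F] {n p : ℕ} (hn : 4 ≤ n) (hp : p.Prime) (hc : CharP F p) {e : ℕ}
    (hcase : (e = 2 * (n - 1) ∧ Nat.card F % 3 ≠ 2) ∨ (e = n ∧ Odd n ∧ Nat.card F % 3 ≠ 1) ∨
      (e = n - 1 ∧ Even n ∧ Nat.card F % 3 ≠ 1)) {n' : ℕ} (hn' : n' = n ∨ (Even n ∧ n' = n - 1)) :
    Facts (POmega F (quadFormPlus n F)) p (Nat.card F) e n' (2 * n) := by
  have := Fact.mk hp
  have hq : Nat.card F = Fintype.card F := Nat.card_eq_fintype_card
  have hq1 : 1 < Nat.card F := Finite.one_lt_card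
  have hcard : Fintype.card (Fin n ⊕ Fin n) = 2 * n := by simp only [_root_.Fintype.card_sum, _root_.Fintype.card_fin]; ring
  have hord := Cfsg.Agent.S0293.result (F := F) rfl n hn
  have hD : Lift.Data (quadPlus n F) := data_of _ quadPlus_nondegenerate (by rw [hcard]; omega)
    (quadPlus_isotropic (by omega)) (Or.inr (by rw [hcard]; omega))
  have hz := Cfsg.Agent.S0289.result (F := F) rfl n (by omega)
  rw [← coe_quadPlus] at hord hz ⊢
  rw [← hq] at hz
  have hdim : finrank F (Fin n ⊕ Fin n → F) = 2 * n := by rw [Module.finrank_fintype_fun_eq_card, hcard]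
  have h3e : 3 ≤ e := by
    rcases hcase with ⟨rfl, -⟩ | ⟨rfl, -⟩ | ⟨rfl, -⟩ <;> omega
  refine ⟨?_, ?_, ?_, ?_⟩
  · intro r hr he
    obtain ⟨hr2, hr3, hrq, -, -⟩ := prim_cond hr he h3e
    have hrF := natCast_ne_zero (F := F) hr hrq
    apply orth_f1 hD hr hr2
    intro T hTQ hT
    rcases hcase with ⟨h, h3⟩ | ⟨h, ho, h3⟩ | ⟨h, hev, h3⟩
    · subst h
      refine no_three_sub (quadPlus n F) hD.ND (m := n - 1) (by omega) (by rw [hdim]; omega) hr hr2 hr3 hrF he
        (by omega) (Or.inr ⟨⟨n - 1, by omega⟩, rfl⟩) ⟨fun _ => ⟨n - 1, by omega⟩, fun h => absurd h h3⟩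
        ⟨fun _ => ?_, fun h => absurd h h3⟩ T hTQ hT
      rw [hz]
      exact zeros_plus_irr hr hq1.le (by omega) he
    · subst h
      refine no_three_top (quadPlus e F) hD.ND (n := e) (by omega) (by omega) hdim hr hr2 hr3 hrF he
        (Or.inl ⟨ho, rfl⟩) ⟨fun h => absurd h h3, fun _ t _ h => ?_⟩ T hTQ hT
      exact (Nat.not_even_iff_odd.2 ho) ⟨t, by omega⟩
    · subst h
      have ho : Odd (n - 1) := by
        obtain ⟨t, ht⟩ := hev
        exact ⟨t - 1, by omega⟩
      refine no_three_sub (quadPlus n F) hD.ND (m := n - 1) (by omega) (by rw [hdim]; omega) hr hr2 hr3 hrF he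
        (by omega) (Or.inl ⟨ho, rfl⟩) ⟨fun h => absurd h h3, fun _ t _ h => ?_⟩
        ⟨fun h => absurd h h3, fun _ => ?_⟩ T hTQ hT
      · exact (Nat.not_even_iff_odd.2 ho) ⟨t, by omega⟩
      · rw [hz]
        exact zeros_plus_odd hq1.le (by omega) he
  · intro r a hr he ha
    obtain ⟨hr2, hr3, hrq, -, -⟩ := prim_cond hr he h3e
    have hsl : ∃ φ : Matrix.SpecialLinearGroup (Fin n) F →* Cfsg.isometryGroup F (⇑(quadPlus n F)),
        Function.Injective φ := by
      rw [coe_quadPlus]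
      exact Cfsg.Agent.H376.WordEmb.sl_plus n
    rcases hcase with ⟨h, h3⟩ | ⟨h, ho, h3⟩ | ⟨h, hev, h3⟩
    · refine orth_f2_even hD hr h3e he h (by rw [hcard]; omega) ?_ ha
      refine dvd_of_gcd_mul hr hr2 hord (dvd_mul_of_dvd_right ?_ _)
      exact dvd_prod (i := n - 1) (by omega) le_rfl (by rw [← hq]; exact dvd_of_orderOf hq1.le he (by rw [h]))
    · exact orth_f2_odd hD hr h3e he (by omega) hsl ha
    · exact orth_f2_odd hD hr h3e he (by omega) hsl ha
  · intro r hr hrL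
    have h1 : r ∣ Nat.gcd 4 (Fintype.card F ^ n - 1) * Nat.card (POmega F ⇑(quadPlus n F)) := Dvd.dvd.mul_left hrL _
    rw [hord, hr.dvd_mul, hr.dvd_mul] at h1
    have hnn : n - 1 ≤ n' := by rcases hn' with h | ⟨-, h⟩ <;> omega
    rcases h1 with (h1 | h1) | h1
    · exact Or.inl (dvd_card_pow hp hc hr h1)
    · right
      rw [hq]
      rcases hn' with h | ⟨⟨t, ht⟩, h⟩
      · subst h
        refine ⟨n', by omega, le_rfl, h1.trans ?_⟩
        rw [pow_two_mul_sub_one (by omega)]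
        exact Dvd.intro _ rfl
      · refine ⟨t, by omega, by omega, ?_⟩
        rwa [two_mul, ← ht]
    · right
      rw [hq]
      obtain ⟨i, hi1, hi2, hi⟩ := exists_of_dvd_prod hr h1
      exact ⟨i, hi1, by omega, hi⟩
  · intro b hb
    have := orth_f4 hD hp hc hb
    rwa [hcard] at this

theorem minus_facts [Fintype F] {n p : ℕ} (hn : 4 ≤ n) (a b : F)
    (hab : ∀ z₁ z₂ : F, z₁ ^ 2 + a * z₁ * z₂ + b * z₂ ^ 2 = 0 → z₁ = 0 ∧ z₂ = 0) (hp : p.Prime) (hc : CharP F p) {e : ℕ}
    (hcase : (e = 2 * n ∧ (Nat.card F % 3 ≠ 2 ∨ Even n)) ∨ (e = 2 * (n - 1) ∧ Odd n ∧ Nat.card F % 3 = 2)) :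
    Facts (POmega F (quadFormMinus (n - 1) F a b)) p (Nat.card F) e n (2 * n) := by
  have := Fact.mk hp
  have hq : Nat.card F = Fintype.card F := Nat.card_eq_fintype_card
  have hq1 : 1 < Nat.card F := Finite.one_lt_card
  have hcard : Fintype.card ((Fin (n - 1) ⊕ Fin (n - 1)) ⊕ Fin 2) = 2 * n := by simp only [_root_.Fintype.card_sum, _root_.Fintype.card_fin]; omega
  have hord := Cfsg.Agent.S0294.result (F := F) rfl n hn a b hab
  have hD : Lift.Data (quadMinus (n - 1) F a b) := data_of _ (quadMinus_nondegenerate hab) (by rw [hcard]; omega)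
    (quadMinus_isotropic (by omega) a b) (Or.inr (by rw [hcard]; omega))
  have hz := Cfsg.Agent.S0290.result (F := F) rfl n (by omega) a b hab
  rw [← coe_quadMinus] at hord hz ⊢
  rw [← hq] at hz
  have hdim : finrank F ((Fin (n - 1) ⊕ Fin (n - 1)) ⊕ Fin 2 → F) = 2 * n := by
    rw [Module.finrank_fintype_fun_eq_card, hcard]
  have h3e : 3 ≤ e := by
    rcases hcase with ⟨rfl, -⟩ | ⟨rfl, -⟩ <;> omega
  refine ⟨?_, ?_, ?_, ?_⟩
  · intro r hr he
    obtain ⟨hr2, hr3, hrq, -, -⟩ := prim_cond hr he h3e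
    have hrF := natCast_ne_zero (F := F) hr hrq
    apply orth_f1 hD hr hr2
    intro T hTQ hT
    rcases hcase with ⟨h, h3⟩ | ⟨h, ho, h3⟩
    · subst h
      refine no_three_top (quadMinus (n - 1) F a b) hD.ND (n := n) (by omega) (by omega) hdim hr hr2 hr3 hrF he
        (Or.inr ⟨⟨n, by omega⟩, rfl⟩) ⟨fun _ => ⟨n, by omega⟩, fun h4 t ht h => ?_⟩ T hTQ hT
      rcases h3 with h3 | h3
      · exact h3 h4
      · have : n = t := by omega
        exact (Nat.not_even_iff_odd.2 ht) (this ▸ h3)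
    · subst h
      refine no_three_sub (quadMinus (n - 1) F a b) hD.ND (m := n - 1) (by omega) (by rw [hdim]; omega) hr hr2 hr3 hrF
        he (by omega) (Or.inr ⟨⟨n - 1, by omega⟩, rfl⟩) ⟨fun _ => ⟨n - 1, by omega⟩, fun _ t ht h => ?_⟩
        ⟨fun h => absurd h (by omega), fun _ => ?_⟩ T hTQ hT
      · obtain ⟨s, hs⟩ := ho
        obtain ⟨u, hu⟩ := ht
        omega
      · rw [hz]
        exact zeros_minus_irr hr (by omega) (by omega) he
  · intro r a' hr he ha
    obtain ⟨hr2, hr3, hrq, -, -⟩ := prim_cond hr he h3e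
    rcases hcase with ⟨h, h3⟩ | ⟨h, ho, h3⟩
    · refine orth_f2_even hD hr h3e he h (by rw [hcard]; omega) ?_ ha
      refine dvd_of_gcd_mul hr hr2 hord (dvd_mul_of_dvd_left (dvd_mul_of_dvd_right ?_ _) _)
      have h1 := pow_dvd_add_one (a := 1) hr hq1.le (by omega) (he.trans h)
        (by rw [pow_one]; exact dvd_of_orderOf hq1.le he (by rw [h]))
      rwa [pow_one, hq] at h1
    · refine orth_f2_even hD hr h3e he h (by rw [hcard]; omega) ?_ ha
      refine dvd_of_gcd_mul hr hr2 hord (dvd_mul_of_dvd_right ?_ _)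
      exact dvd_prod (i := n - 1) (by omega) le_rfl (by rw [← hq]; exact dvd_of_orderOf hq1.le he (by rw [h]))
  · intro r hr hrL
    have h1 : r ∣ Nat.gcd 4 (Fintype.card F ^ n + 1) * Nat.card (POmega F ⇑(quadMinus (n - 1) F a b)) :=
      Dvd.dvd.mul_left hrL _
    rw [hord, hr.dvd_mul, hr.dvd_mul] at h1
    rcases h1 with (h1 | h1) | h1
    · exact Or.inl (dvd_card_pow hp hc hr h1)
    · right
      rw [hq]
      refine ⟨n, by omega, le_rfl, h1.trans ?_⟩
      rw [pow_two_mul_sub_one (by omega)]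
      exact Dvd.intro_left _ rfl
    · right
      rw [hq]
      obtain ⟨i, hi1, hi2, hi⟩ := exists_of_dvd_prod hr h1
      exact ⟨i, hi1, by omega, hi⟩
  · intro b' hb
    have := orth_f4 hD hp hc hb
    rwa [hcard] at this

end Cfsg.Agent.H390
end
end

-- part: H390/FactsAll
section
set_option linter.all false
open scoped Cfsg.Agent.FastGrp

/-!
# The facts for all symplectic and orthogonal simple groups (helper390)
-/

set_option autoImplicit false
set_option linter.unusedSectionVars false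

namespace Cfsg.Agent.H390

open Module Cfsg Matrix NonAdj QuadraticMap

/-- The numerical relations. -/
def Rel (q e n D : ℕ) : Prop :=
  (Even e ∧ 4 ≤ e ∧ (e % 4 = 0 ∨ q % 3 ≠ 2) ∧ (e = 6 → q % 3 = 1) ∧ 2 * n ≤ e + 2 ∧ (e ≤ 6 → 2 * n ≤ e) ∧ D ≤ e + 2) ∨
    (Odd e ∧ 3 ≤ e ∧ q % 3 ≠ 1 ∧ n ≤ e ∧ D ≤ 2 * e + 2)

/-- which group -/
inductive Fam (L : Type*) [Group L] : ℕ → ℕ → ℕ → ℕ → Prop
  | sp (F : Type) [Field F] [Fintype F] (n e : ℕ) (hn : 2 ≤ n) (hn2 : n = 2 → 3 ≤ Fintype.card F)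
      (iso : Nonempty (L ≃* PSp n F)) (he : (e = 2 * n ∧ (Even n ∨ Nat.card F % 3 = 1)) ∨ (e = n ∧ Odd n ∧ Nat.card F % 3 ≠ 1)) :
      Fam L (Nat.card F) e n (2 * n)
  | odd (F : Type) [Field F] [Fintype F] (n e : ℕ) (hn : 3 ≤ n) (hodd : Odd (Fintype.card F))
      (iso : Nonempty (L ≃* POmega F (quadFormOdd n F)))
      (he : (e = 2 * n ∧ (Even n ∨ Nat.card F % 3 = 1)) ∨ (e = n ∧ Odd n ∧ Nat.card F % 3 ≠ 1)) :
      Fam L (Nat.card F) e n (2 * n + 1)
  | plus (F : Type) [Field F] [Fintype F] (n e : ℕ) (hn : 4 ≤ n) (iso : Nonempty (L ≃* POmega F (quadFormPlus n F)))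
      (he : (e = 2 * (n - 1) ∧ Nat.card F % 3 = 1) ∨ (e = n ∧ Odd n ∧ Nat.card F % 3 ≠ 1) ∨
        (e = n - 1 ∧ Even n ∧ Nat.card F % 3 ≠ 1)) (n' : ℕ) (hn' : (Odd n ∧ n' = n) ∨ (Even n ∧ n' = n - 1)) :
      Fam L (Nat.card F) e n' (2 * n)
  | minus (F : Type) [Field F] [Fintype F] (n e : ℕ) (hn : 4 ≤ n) (a b : F)
      (hab : ∀ z₁ z₂ : F, z₁ ^ 2 + a * z₁ * z₂ + b * z₂ ^ 2 = 0 → z₁ = 0 ∧ z₂ = 0)
      (iso : Nonempty (L ≃* POmega F (quadFormMinus (n - 1) F a b)))
      (he : (e = 2 * n ∧ (Nat.card F % 3 ≠ 2 ∨ Even n)) ∨ (e = 2 * (n - 1) ∧ Odd n ∧ Nat.card F % 3 = 2)) :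
      Fam L (Nat.card F) e n (2 * n)

theorem Facts.congr {L L' : Type*} [Group L] [Group L'] {p q e n D : ℕ} (h : Facts L' p q e n D) (i : L ≃* L') :
    Facts L p q e n D := by
  refine ⟨?_, ?_, ?_, ?_⟩
  · intro r hr he x hx
    exact h.f1 r hr he (i x) (by rw [MulEquiv.orderOf_eq, hx])
  · intro r a hr he ha
    obtain ⟨x, hx⟩ := h.f2 r a hr he ha
    exact ⟨i.symm x, by rw [MulEquiv.orderOf_eq, hx]⟩
  · intro r hr hrL
    exact h.f3 r hr (by rwa [← Nat.card_congr i.toEquiv])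
  · rintro b ⟨x, hx⟩
    exact h.f4 b ⟨i x, by rw [MulEquiv.orderOf_eq, hx]⟩

theorem Fam.rel {L : Type*} [Group L] {q e n D : ℕ} (h : Fam L q e n D) : Rel q e n D := by
  cases h with
  | sp F n e hn hn2 iso he =>
    rcases he with ⟨rfl, h⟩ | ⟨rfl, ho, h⟩
    · left
      refine ⟨⟨n, by omega⟩, by omega, ?_, ?_, by omega, by omega, by omega⟩
      · rcases h with ⟨t, ht⟩ | h <;> omega
      · intro h6
        rcases h with ⟨t, ht⟩ | h <;> omega
    · right
      refine ⟨ho, ?_, h, le_rfl, by omega⟩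
      obtain ⟨t, ht⟩ := ho
      omega
  | odd F n e hn hodd iso he =>
    rcases he with ⟨rfl, h⟩ | ⟨rfl, ho, h⟩
    · left
      refine ⟨⟨n, by omega⟩, by omega, ?_, ?_, by omega, by omega, by omega⟩
      · rcases h with ⟨t, ht⟩ | h <;> omega
      · intro h6
        rcases h with ⟨t, ht⟩ | h <;> omega
    · right
      exact ⟨ho, by omega, h, le_rfl, by omega⟩
  | plus F n e hn iso he n' hn' =>
    have h1 : ∀ k : ℕ, Even k ↔ k % 2 = 0 := fun k => Nat.even_iff
    have h2 : ∀ k : ℕ, Odd k ↔ k % 2 = 1 := fun k => Nat.odd_iff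
    rw [h1, h2] at hn' he
    rcases he with ⟨rfl, h⟩ | ⟨rfl, ho, h⟩ | ⟨rfl, ho, h⟩
    · left
      refine ⟨⟨n - 1, by omega⟩, by omega, by omega, by omega, by omega, by omega, by omega⟩
    · right
      refine ⟨(h2 _).2 ho, by omega, h, by omega, by omega⟩
    · right
      refine ⟨(h2 _).2 (by omega), by omega, h, by omega, by omega⟩
  | minus F n e hn a b hab iso he =>
    have h1 : ∀ k : ℕ, Even k ↔ k % 2 = 0 := fun k => Nat.even_iff
    have h2 : ∀ k : ℕ, Odd k ↔ k % 2 = 1 := fun k => Nat.odd_iff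
    rw [h1, h2] at he
    left
    rcases he with ⟨rfl, h⟩ | ⟨rfl, ho, h⟩
    · refine ⟨⟨n, by omega⟩, by omega, by omega, by omega, by omega, by omega, by omega⟩
    · refine ⟨⟨n - 1, by omega⟩, by omega, by omega, by omega, by omega, by omega, by omega⟩

theorem Fam.facts {L : Type*} [Group L] {q e n D : ℕ} (h : Fam L q e n D) :
    ∃ p f : ℕ, p.Prime ∧ 1 ≤ f ∧ q = p ^ f ∧ Facts L p q e n D := by
  cases h with
  | sp F n e hn hn2 iso he =>
    obtain ⟨p, hc⟩ := CharP.exists F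
    have hp : p.Prime := CharP.char_is_prime F p
    have := Fact.mk hp
    obtain ⟨f, hf⟩ := FiniteField.card F p
    obtain ⟨i⟩ := iso
    refine ⟨p, f, hp, f.pos, by rw [Nat.card_eq_fintype_card, hf.2], ?_⟩
    refine (sp_facts hn hn2 hp hc ?_ ?_ ?_).congr i
    · rcases he with ⟨rfl, h⟩ | ⟨rfl, ⟨t, ht⟩, h⟩ <;> omega
    · rcases he with ⟨rfl, h⟩ | ⟨rfl, ho, h⟩
      · exact Or.inr ⟨⟨n, by omega⟩, rfl⟩
      · exact Or.inl ⟨ho, rfl⟩
    · rcases he with ⟨rfl, h⟩ | ⟨rfl, ho, h⟩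
      · refine ⟨fun _ => ⟨n, by omega⟩, fun h2 t ht h3 => ?_⟩
        obtain rfl : n = t := by omega
        rcases h with h | h
        · exact (Nat.not_even_iff_odd.2 ht) h
        · omega
      · refine ⟨fun h2 => absurd h2 h, fun h2 t ht h3 => ?_⟩
        exact (Nat.not_even_iff_odd.2 ho) ⟨t, by omega⟩
  | odd F n e hn hodd iso he =>
    obtain ⟨p, hc⟩ := CharP.exists F
    have hp : p.Prime := CharP.char_is_prime F p
    have := Fact.mk hp
    obtain ⟨f, hf⟩ := FiniteField.card F p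
    obtain ⟨i⟩ := iso
    refine ⟨p, f, hp, f.pos, by rw [Nat.card_eq_fintype_card, hf.2], ?_⟩
    refine (odd_facts hn hodd hp hc ?_ ?_ ?_).congr i
    · rcases he with ⟨rfl, h⟩ | ⟨rfl, ⟨t, ht⟩, h⟩ <;> omega
    · rcases he with ⟨rfl, h⟩ | ⟨rfl, ho, h⟩
      · exact Or.inr ⟨⟨n, by omega⟩, rfl⟩
      · exact Or.inl ⟨ho, rfl⟩
    · rcases he with ⟨rfl, h⟩ | ⟨rfl, ho, h⟩
      · refine ⟨fun _ => ⟨n, by omega⟩, fun h2 t ht h3 => ?_⟩
        obtain rfl : n = t := by omega
        rcases h with h | h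
        · exact (Nat.not_even_iff_odd.2 ht) h
        · omega
      · refine ⟨fun h2 => absurd h2 h, fun h2 t ht h3 => ?_⟩
        exact (Nat.not_even_iff_odd.2 ho) ⟨t, by omega⟩
  | plus F n e hn iso he n' hn' =>
    obtain ⟨p, hc⟩ := CharP.exists F
    have hp : p.Prime := CharP.char_is_prime F p
    have := Fact.mk hp
    obtain ⟨f, hf⟩ := FiniteField.card F p
    obtain ⟨i⟩ := iso
    refine ⟨p, f, hp, f.pos, by rw [Nat.card_eq_fintype_card, hf.2], ?_⟩
    refine (plus_facts hn hp hc ?_ ?_).congr i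
    · rcases he with ⟨rfl, h⟩ | h | h
      · exact Or.inl ⟨rfl, by omega⟩
      · exact Or.inr (Or.inl h)
      · exact Or.inr (Or.inr h)
    · rcases hn' with ⟨_, h⟩ | h
      · exact Or.inl h
      · exact Or.inr h
  | minus F n e hn a b hab iso he =>
    obtain ⟨p, hc⟩ := CharP.exists F
    have hp : p.Prime := CharP.char_is_prime F p
    have := Fact.mk hp
    obtain ⟨f, hf⟩ := FiniteField.card F p
    obtain ⟨i⟩ := iso
    refine ⟨p, f, hp, f.pos, by rw [Nat.card_eq_fintype_card, hf.2], ?_⟩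
    exact (minus_facts hn a b hab hp hc he).congr i

end Cfsg.Agent.H390
end

-- part: H390/Cocl
section
prune_inst 0x17030044082000000000516020020040400049000600000600003400808c3600040290000a01112120c908010000040000000900040000004003000000600208002560023500d0c240017000000000000000000000000000000000000000004000000000
set_option linter.all false
open scoped Cfsg.Agent.FastGrp

-- part: H390/Nonadj2
section
/-!
# Nonadjacent odd primes in symplectic and orthogonal groups (helper390)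

`psp_nonadj`, `orth_nonadj`: `η(r) + η(s) > n`, the quotient of the exponents not an odd integer: no elements of order
`r * s`.
-/

set_option autoImplicit false
set_option linter.unusedSectionVars false

namespace Cfsg.Agent.H390

open Module Cfsg Matrix NonAdj QuadraticMap
open Cfsg.Agent.LieClassical.OrthCount Cfsg.Agent.LieClassical.OmegaReindex Cfsg.Agent.LieClassical
open Cfsg.Agent.H150 (isCompl_fix ND)

variable {F : Type*} [Field F]

theorem psp_nonadj [Fintype F] {n : ℕ} (hn : 2 ≤ n) (hn2 : n = 2 → 3 ≤ Fintype.card F) {r s : ℕ} (hr : r.Prime)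
    (hs : s.Prime) (hr2 : r ≠ 2) (hs2 : s ≠ 2) (hrs : r ≠ s) (hrF : ((r : ℕ) : F) ≠ 0) (hsF : ((s : ℕ) : F) ≠ 0)
    {er es ηr ηs : ℕ} (her : orderOf ((Nat.card F : ℕ) : ZMod r) = er) (hes : orderOf ((Nat.card F : ℕ) : ZMod s) = es)
    (hηr : IsEta er ηr) (hηs : IsEta es ηs) (hle : ηs ≤ ηr) (hsum : n < ηs + ηr)
    (hrat : ¬ ∃ t : ℕ, Odd t ∧ er = es * t) (g : PSp n F) : orderOf g ≠ r * s := by
  intro hg
  obtain ⟨p, hp⟩ := CharP.exists F
  have hpp : p.Prime := CharP.char_is_prime F p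
  have := Fact.mk hpp
  have hrp : r ≠ p := by
    rintro rfl
    exact hrF (CharP.cast_eq_zero F _)
  have hsp : s ≠ p := by
    rintro rfl
    exact hsF (CharP.cast_eq_zero F _)
  have hq : Nat.card F = Fintype.card F := Nat.card_eq_fintype_card
  have hfin : Finite (PSp n F) := inferInstance
  have hsG : s ∣ Nat.card (PSp n F) := ((Dvd.intro_left r rfl).trans (dvd_of_eq hg.symm)).trans (orderOf_dvd_natCard g)
  have hrG : r ∣ Nat.card (PSp n F) := ((Dvd.intro s rfl).trans (dvd_of_eq hg.symm)).trans (orderOf_dvd_natCard g)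
  rw [hq] at her hes
  have h1 := (Cfsg.Agent.S2469.result (F := F) p n hn hn2 s r hs hr hs2 hr2 hsp hrp
    (Ne.symm hrs) hsG hrG es er ηs ηr hes.symm her.symm hηs hηr hle).2 ⟨hsum, hrat⟩
  exact h1 ⟨g, by rw [hg, mul_comm]⟩

section

variable {V : Type*} [AddCommGroup V] [Module F V] [FiniteDimensional F V]

theorem split_prime {T : V →ₗ[F] V} {r s : ℕ} (hr : r.Prime) (hs : s.Prime) (hT : ∀ j : ℕ, T ^ j = 1 ↔ r * s ∣ j) :
    (T ^ s) ^ r = 1 ∧ T ^ s ≠ 1 ∧ (T ^ r) ^ s = 1 ∧ T ^ r ≠ 1 := by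
  refine ⟨?_, ?_, ?_, ?_⟩
  · rw [← pow_mul, hT, mul_comm]
  · rw [Ne, hT]
    intro h
    have := Nat.le_of_dvd hs.pos h
    have := hr.two_le
    have := hs.pos
    nlinarith
  · rw [← pow_mul, hT]
  · rw [Ne, hT]
    intro h
    have := Nat.le_of_dvd hr.pos h
    have := hs.two_le
    have := hr.pos
    nlinarith

theorem orth_nonadj [Fintype F] (Q : QuadraticForm F V) (hQ : ND Q) {r s : ℕ} (hr : r.Prime)
    (hs : s.Prime) (hr2 : r ≠ 2) (hs2 : s ≠ 2) (hrs : r ≠ s) (hrF : ((r : ℕ) : F) ≠ 0) (hsF : ((s : ℕ) : F) ≠ 0)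
    {er es ηr ηs : ℕ} (her : orderOf ((Nat.card F : ℕ) : ZMod r) = er) (hes : orderOf ((Nat.card F : ℕ) : ZMod s) = es)
    (hηr : IsEta er ηr) (hηs : IsEta es ηs) (hs1 : 1 ≤ ηs) (hle : ηs ≤ ηr) (hr1 : 2 ≤ ηr)
    (hr3 : ηr = 2 → 3 ≤ Fintype.card F)
    (hdim : finrank F V < 2 * (ηs + ηr)) (hrat : ¬ ∃ t : ℕ, Odd t ∧ er = es * t)
    (T : V →ₗ[F] V) (hTQ : ∀ v, Q (T v) = Q v) (hT : ∀ j : ℕ, T ^ j = 1 ↔ r * s ∣ j) : False := by
  obtain ⟨h1, h2, h3, h4⟩ := split_prime hr hs hT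
  have hcomm : Commute (T ^ s) (T ^ r) := (Commute.refl T).pow_pow _ _
  have hd := finrank_range_eq Q hQ hr hr2 hrF h1 h2 (quad_pow hTQ s) her hηr (by omega)
  by_cases htriv : ∀ v ∈ LinearMap.range (T ^ s - 1), (T ^ r) v = v
  · have hle1 : LinearMap.range (T ^ s - 1) ≤ LinearMap.ker (T ^ r - 1) := by
      intro v hv
      rw [LinearMap.mem_ker, LinearMap.sub_apply, Module.End.one_apply, htriv v hv, sub_self]
    have h5 := Submodule.finrank_mono hle1
    have h6 := Submodule.finrank_add_eq_of_isCompl (isCompl_fix hsF (T ^ r) h3)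
    have h7 := Dec.dvd_finrank Q hQ hs hs2 hsF (T ^ r) h3 (quad_pow hTQ r) (η := ηs) (by rw [hes]; exact hηs)
    have h8 : 0 < finrank F (LinearMap.range (T ^ r - 1)) := by
      rw [Module.finrank_pos_iff]
      apply Submodule.nontrivial_iff_ne_bot.2
      intro h
      rw [LinearMap.range_eq_bot, sub_eq_zero] at h
      exact h4 h
    have h9 := Nat.le_of_dvd h8 h7
    omega
  · push Not at htriv
    obtain ⟨g, hg⟩ := Dec.exists_psp_of_range Q hQ hr hr2 hrF hs hs2 hrs (T ^ s) (T ^ r) hcomm h1 h3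
      (quad_pow hTQ s) (quad_pow hTQ r) htriv hd
    exact psp_nonadj hr1 hr3 hr hs hr2 hs2 hrs hrF hsF her hes hηr hηs hle (by omega) hrat g hg

end

theorem pomega_nonadj [Fintype F] {ι : Type} [Fintype ι] [DecidableEq ι] {Q : QuadraticForm F (ι → F)}
    (hD : Lift.Data Q) {r s : ℕ} (hr : r.Prime)
    (hs : s.Prime) (hr2 : r ≠ 2) (hs2 : s ≠ 2) (hrs : r ≠ s) (hrF : ((r : ℕ) : F) ≠ 0) (hsF : ((s : ℕ) : F) ≠ 0)
    {er es ηr ηs : ℕ} (her : orderOf ((Nat.card F : ℕ) : ZMod r) = er) (hes : orderOf ((Nat.card F : ℕ) : ZMod s) = es)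
    (hηr : IsEta er ηr) (hηs : IsEta es ηs) (hs1 : 1 ≤ ηs) (hle : ηs ≤ ηr) (hr1 : 2 ≤ ηr)
    (hr3 : ηr = 2 → 3 ≤ Fintype.card F)
    (hdim : Fintype.card ι < 2 * (ηs + ηr)) (hrat : ¬ ∃ t : ℕ, Odd t ∧ er = es * t) (g : POmega F (⇑Q)) :
    orderOf g ≠ r * s := by
  intro hg
  obtain ⟨T, h1, h2⟩ := exists_lin_of_order hD ((hr.odd_of_ne_two hr2).mul (hs.odd_of_ne_two hs2)) ⟨g, hg⟩
  exact orth_nonadj Q hD.ND hr hs hr2 hs2 hrs hrF hsF her hes hηr hηs hs1 hle hr1 hr3
    (by rw [Module.finrank_fintype_fun_eq_card]; exact hdim) hrat T h1 h2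

end Cfsg.Agent.H390
end

-- part: H390/Cocl
section
/-!
# Three pairwise nonadjacent primes, two of them at least seven (helper390)

`cocl`: for `PSp_2n(q)`, `PΩ_2n+1(q)` (`n ≥ 3`), `PΩ^±_2n(q)` (`n ≥ 4`) other than `Sp_6(2)`, `Ω⁺_8(2)`.
-/

set_option autoImplicit false
set_option linter.unusedSectionVars false

namespace Cfsg.Agent.H390

open Module Cfsg Matrix NonAdj QuadraticMap
open Cfsg.Agent.LieClassical.OrthCount Cfsg.Agent.LieClassical.OmegaReindex Cfsg.Agent.LieClassical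

/-- three pairwise nonadjacent primes, two of them at least seven -/
def Cocl (L : Type*) [Group L] : Prop :=
  ∃ r s t : ℕ, r.Prime ∧ s.Prime ∧ t.Prime ∧ 7 ≤ r ∧ 7 ≤ s ∧ r ≠ s ∧ r ≠ t ∧ s ≠ t ∧ r ∣ Nat.card L ∧ s ∣ Nat.card L ∧
    t ∣ Nat.card L ∧ (∀ g : L, orderOf g ≠ r * s) ∧ (∀ g : L, orderOf g ≠ r * t) ∧ (∀ g : L, orderOf g ≠ s * t)

theorem Cocl.congr {L L' : Type*} [Group L] [Group L'] (h : Cocl L') (i : L ≃* L') : Cocl L := by
  obtain ⟨r, s, t, h1, h2, h3, h4, h5, h6, h7, h8, h9, h10, h11, h12, h13, h14⟩ := h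
  rw [← Nat.card_congr i.toEquiv] at h9 h10 h11
  exact ⟨r, s, t, h1, h2, h3, h4, h5, h6, h7, h8, h9, h10, h11,
    fun g hg => h12 (i g) (by rw [MulEquiv.orderOf_eq, hg]), fun g hg => h13 (i g) (by rw [MulEquiv.orderOf_eq, hg]),
    fun g hg => h14 (i g) (by rw [MulEquiv.orderOf_eq, hg])⟩

/-- nonadjacency of the classes -/
def NA (L : Type*) [Group L] (q n : ℕ) : Prop :=
  ∀ r s er es ηr ηs : ℕ, r.Prime → s.Prime → orderOf (q : ZMod r) = er → orderOf (q : ZMod s) = es → r ≠ s → 3 ≤ er → 3 ≤ es →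
    IsEta er ηr → IsEta es ηs → ηs ≤ ηr → (ηr = 2 → 3 ≤ q) → n < ηs + ηr → (¬ ∃ t : ℕ, Odd t ∧ er = es * t) →
    ∀ g : L, orderOf g ≠ r * s

theorem na_psp {F : Type} [Field F] [Fintype F] {n : ℕ} (hn : 2 ≤ n) (hn2 : n = 2 → 3 ≤ Fintype.card F) :
    NA (PSp n F) (Nat.card F) n := by
  intro r s er es ηr ηs hr hs her hes hrs h3r h3s hηr hηs hle h2 hsum hrat g
  obtain ⟨hr2, hr3, hrq, -, -⟩ := prim_cond hr her h3r
  obtain ⟨hs2, hs3, hsq, -, -⟩ := prim_cond hs hes h3s
  exact psp_nonadj hn hn2 hr hs hr2 hs2 hrs (natCast_ne_zero hr hrq) (natCast_ne_zero hs hsq) her hes hηr hηs hle hsum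
    hrat g

theorem na_pomega {F : Type} [Field F] [Fintype F] {ι : Type} [Fintype ι] [DecidableEq ι] {Q : QuadraticForm F (ι → F)}
    (hD : Lift.Data Q) {n : ℕ} (hcard : Fintype.card ι ≤ 2 * n + 1) : NA (POmega F (⇑Q)) (Nat.card F) n := by
  intro r s er es ηr ηs hr hs her hes hrs h3r h3s hηr hηs hle h2 hsum hrat g
  obtain ⟨hr2, hr3, hrq, -, -⟩ := prim_cond hr her h3r
  obtain ⟨hs2, hs3, hsq, -, -⟩ := prim_cond hs hes h3s
  have h1 : 1 ≤ ηs := hηs.ne (by omega)
  have h2' : 2 ≤ ηr := by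
    rcases hηr with ⟨_, h⟩ | ⟨⟨k, hk⟩, h⟩ <;> omega
  exact pomega_nonadj hD hr hs hr2 hs2 hrs (natCast_ne_zero hr hrq) (natCast_ne_zero hs hsq) her hes hηr hηs h1 hle h2'
    (fun h => by rw [← Nat.card_eq_fintype_card]; exact h2 h) (by omega) hrat g

theorem ge_seven {q r e : ℕ} (hr : r.Prime) (he : orderOf (q : ZMod r) = e) (h3 : 3 ≤ e) (h4 : e ≠ 4) : 7 ≤ r := by
  obtain ⟨h1, h2, h5, h6, h7⟩ := prim_cond hr he h3
  have h8 : r ≠ 4 := by
    rintro rfl
    revert hr
    norm_num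
  have h9 : r ≠ 6 := by
    rintro rfl
    revert hr
    norm_num
  by_contra hcon
  have h10 : r = 5 := by omega
  rw [h10] at h6
  obtain ⟨c, hc⟩ := h6
  have h11 : e ≤ 4 := by omega
  have h12 : e = 3 := by omega
  rw [h12] at hc
  omega

theorem cocl_mk {L : Type*} [Group L] {q n : ℕ} (hq : 2 ≤ q) (hna : NA L q n) {e1 e2 e3 η1 η2 η3 : ℕ}
    (h1 : 3 ≤ e1) (h2 : 3 ≤ e2) (h3 : 3 ≤ e3) (g1 : IsEta e1 η1) (g2 : IsEta e2 η2) (g3 : IsEta e3 η3)
    (f1 : η2 ≤ η1) (f2 : η3 ≤ η2) (f3 : n < η3 + η2) (h4a : e1 ≠ 4) (h4b : e2 ≠ 4) (h22 : 3 ≤ η2)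
    (h12 : e1 ≠ e2) (h13 : e1 ≠ e3) (h23 : e2 ≠ e3)
    (r1 : ¬ ∃ t : ℕ, Odd t ∧ e1 = e2 * t) (r2 : ¬ ∃ t : ℕ, Odd t ∧ e1 = e3 * t) (r3 : ¬ ∃ t : ℕ, Odd t ∧ e2 = e3 * t)
    (z1 : ¬ (q = 2 ∧ e1 = 6)) (z2 : ¬ (q = 2 ∧ e2 = 6)) (z3 : ¬ (q = 2 ∧ e3 = 6))
    (hdiv : ∀ r e : ℕ, r.Prime → orderOf (q : ZMod r) = e → e = e1 ∨ e = e2 ∨ e = e3 → r ∣ Nat.card L) : Cocl L := by
  obtain ⟨r, hr, her⟩ := Cfsg.Agent.Lib.Zsigmondy.exists_prime_orderOf hq (by omega : 2 ≤ e1) (by omega) z1
  obtain ⟨s, hs, hes⟩ := Cfsg.Agent.Lib.Zsigmondy.exists_prime_orderOf hq (by omega : 2 ≤ e2) (by omega) z2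
  obtain ⟨t, ht, het⟩ := Cfsg.Agent.Lib.Zsigmondy.exists_prime_orderOf hq (by omega : 2 ≤ e3) (by omega) z3
  have n1 : r ≠ s := by rintro rfl; exact h12 (her.symm.trans hes)
  have n2 : r ≠ t := by rintro rfl; exact h13 (her.symm.trans het)
  have n3 : s ≠ t := by rintro rfl; exact h23 (hes.symm.trans het)
  refine ⟨r, s, t, hr, hs, ht, ge_seven hr her h1 h4a, ge_seven hs hes h2 h4b, n1, n2, n3,
    hdiv r e1 hr her (Or.inl rfl), hdiv s e2 hs hes (Or.inr (Or.inl rfl)), hdiv t e3 ht het (Or.inr (Or.inr rfl)),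
    ?_, ?_, ?_⟩
  · exact hna r s e1 e2 η1 η2 hr hs her hes n1 h1 h2 g1 g2 f1 (by omega) (by omega) r1
  · exact hna r t e1 e3 η1 η3 hr ht her het n2 h1 h3 g1 g3 (by omega) (by omega) (by omega) r2
  · exact hna s t e2 e3 η2 η3 hs ht hes het n3 h2 h3 g2 g3 f2 (by omega) f3 r3

theorem eta_even (k : ℕ) : IsEta (2 * k) k := Or.inr ⟨⟨k, by omega⟩, rfl⟩

/-- `a = b t`, `t` odd, `b < a < 3 b` is impossible -/
theorem rat_lt {a b : ℕ} (h1 : b < a) (h2 : a < 3 * b) : ¬ ∃ t : ℕ, Odd t ∧ a = b * t := by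
  rintro ⟨t, ⟨k, hk⟩, h⟩
  subst hk
  rcases k with _ | k
  · omega
  · have : b * 3 ≤ b * (2 * (k + 1) + 1) := Nat.mul_le_mul_left _ (by omega)
    omega

theorem rat_lt' {a b : ℕ} (h0 : 0 < a) (h1 : a < b) : ¬ ∃ t : ℕ, Odd t ∧ a = b * t := by
  rintro ⟨t, ⟨k, hk⟩, h⟩
  have : b * 1 ≤ b * t := Nat.mul_le_mul_left _ (by omega)
  omega

theorem rat_two {b : ℕ} (h0 : 0 < b) : ¬ ∃ t : ℕ, Odd t ∧ 2 * b = b * t := by
  rintro ⟨t, ⟨k, hk⟩, h⟩
  rw [mul_comm] at h
  have := Nat.eq_of_mul_eq_mul_left h0 h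
  omega

/-- classes dividing the order, all `e` with `η(e) ≤ n` -/
theorem dvd_of_eta {q r e η n : ℕ} (hq : 1 ≤ q) (he : orderOf (q : ZMod r) = e) (hη : IsEta e η) (h1 : 1 ≤ η)
    (hn : η ≤ n) : r ∣ ∏ i ∈ Finset.range n, (q ^ (2 * (i + 1)) - 1) := by
  refine dvd_prod h1 hn (dvd_of_orderOf hq he ?_)
  rcases hη with ⟨_, rfl⟩ | ⟨_, h⟩
  · exact Dvd.intro_left 2 rfl
  · rw [h]

/-- the general argument for the types `B`, `C`, `²D`: classes `2n`, `2n-2`, `2n-4` -/
theorem cocl_gen {L : Type*} [Group L] {q n : ℕ} (hq : 2 ≤ q) (hn : 4 ≤ n) (hqn : q = 2 → 6 ≤ n) (hna : NA L q n)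
    (hdiv : ∀ r e : ℕ, r.Prime → orderOf (q : ZMod r) = e → e = 2 * n ∨ e = 2 * (n - 1) ∨ e = 2 * (n - 2) → r ∣ Nat.card L) :
    Cocl L := by
  refine cocl_mk hq hna (e1 := 2 * n) (e2 := 2 * (n - 1)) (e3 := 2 * (n - 2)) (by omega) (by omega) (by omega)
    (eta_even n) (eta_even (n - 1)) (eta_even (n - 2)) (by omega) (by omega) (by omega) (by omega) (by omega) (by omega)
    (by omega) (by omega) (by omega) (rat_lt (by omega) (by omega)) ?_ (rat_lt (by omega) (by omega)) (by omega)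
    (by omega) (by omega) hdiv
  rcases Nat.lt_or_ge 4 n with h | h
  · exact rat_lt (by omega) (by omega)
  · obtain rfl : n = 4 := by omega
    exact rat_two (b := 4) (by norm_num)

/-- `PSp_2n(q)` -/
theorem cocl_psp {F : Type} [Field F] [Fintype F] {n : ℕ} (hn : 3 ≤ n) (hn2 : n = 3 → Fintype.card F ≠ 2) :
    Cocl (PSp n F) := by
  have hq : Nat.card F = Fintype.card F := Nat.card_eq_fintype_card
  have hq1 : 1 < Nat.card F := Finite.one_lt_card
  have hna := na_psp (F := F) (n := n) (by omega) (by omega)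
  have hdiv : ∀ r e η : ℕ, r.Prime → orderOf ((Nat.card F : ℕ) : ZMod r) = e → 3 ≤ e → IsEta e η → η ≤ n →
      r ∣ Nat.card (PSp n F) := by
    intro r e η hr he h3 hη hle
    obtain ⟨hr2, hr3, hrq, -, -⟩ := prim_cond hr he h3
    have hodd : Odd (r ^ 1) := (hr.odd_of_ne_two hr2).pow
    have h1 : r ∣ Nat.card (Matrix.symplecticGroup (Fin n) F) := by
      rw [Cfsg.Agent.S0245.result (F := F) rfl n]
      apply Dvd.dvd.mul_left
      rw [← hq]
      exact dvd_of_eta hq1.le he hη (hη.ne (by omega)) hle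
    have := Fact.mk hr
    obtain ⟨y, hy⟩ := exists_prime_orderOf_dvd_card' r h1
    obtain ⟨x, hx⟩ := Lift.desc_odd _ (fun z hz => Cfsg.Agent.H376.SpEmb.center_pow z hz) (hr.odd_of_ne_two hr2) ⟨y, hy⟩
    rw [← hx]
    exact orderOf_dvd_natCard x
  by_cases hgen : 4 ≤ n ∧ (Nat.card F = 2 → 6 ≤ n)
  · refine cocl_gen hq1 hgen.1 hgen.2 hna fun r e hr he h => ?_
    rcases h with rfl | rfl | rfl
    · exact hdiv r _ n hr he (by omega) (eta_even _) le_rfl
    · exact hdiv r _ (n - 1) hr he (by omega) (eta_even _) (by omega)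
    · exact hdiv r _ (n - 2) hr he (by omega) (eta_even _) (by omega)
  · have hcases : (n = 3 ∧ Nat.card F ≠ 2) ∨ (n = 4 ∧ Nat.card F = 2) ∨ (n = 5 ∧ Nat.card F = 2) := by omega
    rcases hcases with ⟨rfl, h⟩ | ⟨rfl, h⟩ | ⟨rfl, h⟩
    · refine cocl_mk hq1 hna (e1 := 2 * 3) (e2 := 3) (e3 := 2 * 2) (by omega) (by omega) (by omega) (eta_even 3)
        (Or.inl ⟨by decide, rfl⟩) (eta_even 2) (by omega) (by omega) (by omega) (by omega) (by omega) (by omega)
        (by omega) (by omega) (by omega) (rat_two (by norm_num)) (rat_lt (by omega) (by omega)) (rat_lt' (by omega) (by omega))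
        (by omega) (by omega) (by omega) fun r e hr he h => ?_
      rcases h with rfl | rfl | rfl
      · exact hdiv r _ 3 hr he (by omega) (eta_even _) (by omega)
      · exact hdiv r _ 3 hr he (by omega) (Or.inl ⟨by decide, rfl⟩) (by omega)
      · exact hdiv r _ 2 hr he (by omega) (eta_even _) (by omega)
    · refine cocl_mk hq1 hna (e1 := 2 * 4) (e2 := 3) (e3 := 2 * 2) (by omega) (by omega) (by omega) (eta_even 4)
        (Or.inl ⟨by decide, rfl⟩) (eta_even 2) (by omega) (by omega) (by omega) (by omega) (by omega) (by omega)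
        (by omega) (by omega) (by omega) (rat_lt (by omega) (by omega)) (rat_two (b := 4) (by norm_num)) (rat_lt' (by omega) (by omega))
        (by omega) (by omega) (by omega) fun r e hr he h => ?_
      rcases h with rfl | rfl | rfl
      · exact hdiv r _ 4 hr he (by omega) (eta_even _) (by omega)
      · exact hdiv r _ 3 hr he (by omega) (Or.inl ⟨by decide, rfl⟩) (by omega)
      · exact hdiv r _ 2 hr he (by omega) (eta_even _) (by omega)
    · refine cocl_mk hq1 hna (e1 := 2 * 5) (e2 := 5) (e3 := 2 * 4) (by omega) (by omega) (by omega) (eta_even 5)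
        (Or.inl ⟨by decide, rfl⟩) (eta_even 4) (by omega) (by omega) (by omega) (by omega) (by omega) (by omega)
        (by omega) (by omega) (by omega) (rat_two (by norm_num)) (rat_lt (by omega) (by omega)) (rat_lt' (by omega) (by omega))
        (by omega) (by omega) (by omega) fun r e hr he h => ?_
      rcases h with rfl | rfl | rfl
      · exact hdiv r _ 5 hr he (by omega) (eta_even _) (by omega)
      · exact hdiv r _ 5 hr he (by omega) (Or.inl ⟨by decide, rfl⟩) (by omega)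
      · exact hdiv r _ 4 hr he (by omega) (eta_even _) (by omega)

/-- `PΩ_2n+1(q)` -/
theorem cocl_odd {F : Type} [Field F] [Fintype F] {n : ℕ} (hn : 3 ≤ n) (hodd : Odd (Fintype.card F)) :
    Cocl (POmega F (quadFormOdd n F)) := by
  have h2 := two_ne_zero_of_odd hodd
  have hq : Nat.card F = Fintype.card F := Nat.card_eq_fintype_card
  have hq1 : 1 < Nat.card F := Finite.one_lt_card
  have hq2 : Nat.card F ≠ 2 := by
    rw [hq]
    intro h
    rw [h] at hodd
    revert hodd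
    decide
  have hcard : Fintype.card (Unit ⊕ (Fin n ⊕ Fin n)) = 2 * n + 1 := by simp only [_root_.Fintype.card_sum, _root_.Fintype.card_unique, _root_.Fintype.card_fin]; ring
  have hord := Cfsg.Agent.S0292.result (F := F) rfl hodd n hn
  have hD : Lift.Data (quadOdd n F) := data_of _ (quadOdd_nondegenerate h2) (by rw [hcard]; omega)
    (quadOdd_isotropic (by omega)) (Or.inr (by rw [hcard]; omega))
  rw [← coe_quadOdd] at hord ⊢
  have hna := na_pomega hD (n := n) (by rw [hcard])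
  have hdiv : ∀ r e η : ℕ, r.Prime → orderOf ((Nat.card F : ℕ) : ZMod r) = e → 3 ≤ e → IsEta e η → η ≤ n →
      r ∣ Nat.card (POmega F ⇑(quadOdd n F)) := by
    intro r e η hr he h3 hη hle
    obtain ⟨hr2, hr3, hrq, -, -⟩ := prim_cond hr he h3
    have h3 : r ∣ 2 * Nat.card (POmega F ⇑(quadOdd n F)) := by
      rw [hord]
      apply Dvd.dvd.mul_left
      rw [← hq]
      exact dvd_of_eta hq1.le he hη (hη.ne (by omega)) hle
    rcases hr.dvd_mul.1 h3 with h4 | h4
    · exact absurd ((Nat.prime_dvd_prime_iff_eq hr Nat.prime_two).1 h4) hr2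
    · exact h4
  rcases Nat.lt_or_ge 3 n with h4 | h4
  · refine cocl_gen hq1 h4 (fun h => absurd h hq2) hna fun r e hr he h => ?_
    rcases h with rfl | rfl | rfl
    · exact hdiv r _ n hr he (by omega) (eta_even _) le_rfl
    · exact hdiv r _ (n - 1) hr he (by omega) (eta_even _) (by omega)
    · exact hdiv r _ (n - 2) hr he (by omega) (eta_even _) (by omega)
  · obtain rfl : n = 3 := by omega
    refine cocl_mk hq1 hna (e1 := 2 * 3) (e2 := 3) (e3 := 2 * 2) (by omega) (by omega) (by omega) (eta_even 3)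
      (Or.inl ⟨by decide, rfl⟩) (eta_even 2) (by omega) (by omega) (by omega) (by omega) (by omega) (by omega)
      (by omega) (by omega) (by omega) (rat_two (by norm_num)) (rat_lt (by omega) (by omega)) (rat_lt' (by omega) (by omega))
      (by omega) (by omega) (by omega) fun r e hr he h => ?_
    rcases h with rfl | rfl | rfl
    · exact hdiv r _ 3 hr he (by omega) (eta_even _) (by omega)
    · exact hdiv r _ 3 hr he (by omega) (Or.inl ⟨by decide, rfl⟩) (by omega)
    · exact hdiv r _ 2 hr he (by omega) (eta_even _) (by omega)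

/-- `PΩ⁻_2n(q)` -/
theorem cocl_minus {F : Type} [Field F] [Fintype F] {n : ℕ} (hn : 4 ≤ n) (a b : F)
    (hab : ∀ z₁ z₂ : F, z₁ ^ 2 + a * z₁ * z₂ + b * z₂ ^ 2 = 0 → z₁ = 0 ∧ z₂ = 0) :
    Cocl (POmega F (quadFormMinus (n - 1) F a b)) := by
  have hq : Nat.card F = Fintype.card F := Nat.card_eq_fintype_card
  have hq1 : 1 < Nat.card F := Finite.one_lt_card
  have hcard : Fintype.card ((Fin (n - 1) ⊕ Fin (n - 1)) ⊕ Fin 2) = 2 * n := by simp only [_root_.Fintype.card_sum, _root_.Fintype.card_fin]; omega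
  have hord := Cfsg.Agent.S0294.result (F := F) rfl n hn a b hab
  have hD : Lift.Data (quadMinus (n - 1) F a b) := data_of _ (quadMinus_nondegenerate hab) (by rw [hcard]; omega)
    (quadMinus_isotropic (by omega) a b) (Or.inr (by rw [hcard]; omega))
  rw [← coe_quadMinus] at hord ⊢
  have hna := na_pomega hD (n := n) (by rw [hcard]; omega)
  have hdiv : ∀ r e η : ℕ, r.Prime → orderOf ((Nat.card F : ℕ) : ZMod r) = e → 3 ≤ e → IsEta e η → η ≤ n - 1 →
      r ∣ Nat.card (POmega F ⇑(quadMinus (n - 1) F a b)) := by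
    intro r e η hr he h3 hη hle
    obtain ⟨hr2, hr3, hrq, -, -⟩ := prim_cond hr he h3
    refine dvd_of_gcd_mul hr hr2 hord (dvd_mul_of_dvd_right ?_ _)
    rw [← hq]
    exact dvd_of_eta hq1.le he hη (hη.ne (by omega)) hle
  have hdiv' : ∀ r : ℕ, r.Prime → orderOf ((Nat.card F : ℕ) : ZMod r) = 2 * n →
      r ∣ Nat.card (POmega F ⇑(quadMinus (n - 1) F a b)) := by
    intro r hr he
    obtain ⟨hr2, hr3, hrq, -, -⟩ := prim_cond hr he (by omega)
    refine dvd_of_gcd_mul hr hr2 hord (dvd_mul_of_dvd_left (dvd_mul_of_dvd_right ?_ _) _)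
    have h1 := pow_dvd_add_one (a := 1) hr hq1.le (by omega) he (by rw [pow_one]; exact dvd_of_orderOf hq1.le he dvd_rfl)
    rwa [pow_one, hq] at h1
  by_cases hgen : Nat.card F = 2 → 6 ≤ n
  · refine cocl_gen hq1 hn hgen hna fun r e hr he h => ?_
    rcases h with rfl | rfl | rfl
    · exact hdiv' r hr he
    · exact hdiv r _ (n - 1) hr he (by omega) (eta_even _) (by omega)
    · exact hdiv r _ (n - 2) hr he (by omega) (eta_even _) (by omega)
  · have hcases : (n = 4 ∧ Nat.card F = 2) ∨ (n = 5 ∧ Nat.card F = 2) := by omega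
    rcases hcases with ⟨rfl, h⟩ | ⟨rfl, h⟩
    · refine cocl_mk hq1 hna (e1 := 2 * 4) (e2 := 3) (e3 := 2 * 2) (by omega) (by omega) (by omega) (eta_even 4)
        (Or.inl ⟨by decide, rfl⟩) (eta_even 2) (by omega) (by omega) (by omega) (by omega) (by omega) (by omega)
        (by omega) (by omega) (by omega) (rat_lt (by omega) (by omega)) (rat_two (b := 4) (by norm_num)) (rat_lt' (by omega) (by omega))
        (by omega) (by omega) (by omega) fun r e hr he h => ?_
      rcases h with rfl | rfl | rfl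
      · exact hdiv' r hr he
      · exact hdiv r _ 3 hr he (by omega) (Or.inl ⟨by decide, rfl⟩) (by omega)
      · exact hdiv r _ 2 hr he (by omega) (eta_even _) (by omega)
    · refine cocl_mk hq1 hna (e1 := 2 * 5) (e2 := 2 * 4) (e3 := 3) (by omega) (by omega) (by omega) (eta_even 5)
        (eta_even 4) (Or.inl ⟨by decide, rfl⟩) (by omega) (by omega) (by omega) (by omega) (by omega) (by omega)
        (by omega) (by omega) (by omega) (rat_lt (by omega) (by omega)) ?_ (rat_lt (by omega) (by omega))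
        (by omega) (by omega) (by omega) fun r e hr he h => ?_
      · rintro ⟨t, -, ht⟩
        omega
      rcases h with rfl | rfl | rfl
      · exact hdiv' r hr he
      · exact hdiv r _ 4 hr he (by omega) (eta_even _) (by omega)
      · exact hdiv r _ 3 hr he (by omega) (Or.inl ⟨by decide, rfl⟩) (by omega)

/-- `PΩ⁺_2n(q)` -/
theorem cocl_plus {F : Type} [Field F] [Fintype F] {n : ℕ} (hn : 4 ≤ n) (h42 : n = 4 → Fintype.card F ≠ 2) :
    Cocl (POmega F (quadFormPlus n F)) := by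
  have hq : Nat.card F = Fintype.card F := Nat.card_eq_fintype_card
  have hq1 : 1 < Nat.card F := Finite.one_lt_card
  have hcard : Fintype.card (Fin n ⊕ Fin n) = 2 * n := by simp only [_root_.Fintype.card_sum, _root_.Fintype.card_fin]; ring
  have hord := Cfsg.Agent.S0293.result (F := F) rfl n hn
  have hD : Lift.Data (quadPlus n F) := data_of _ quadPlus_nondegenerate (by rw [hcard]; omega)
    (quadPlus_isotropic (by omega)) (Or.inr (by rw [hcard]; omega))
  rw [← coe_quadPlus] at hord ⊢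
  have hna := na_pomega hD (n := n) (by rw [hcard]; omega)
  have hdiv : ∀ r e η : ℕ, r.Prime → orderOf ((Nat.card F : ℕ) : ZMod r) = e → 3 ≤ e → IsEta e η → η ≤ n - 1 →
      r ∣ Nat.card (POmega F ⇑(quadPlus n F)) := by
    intro r e η hr he h3 hη hle
    obtain ⟨hr2, hr3, hrq, -, -⟩ := prim_cond hr he h3
    refine dvd_of_gcd_mul hr hr2 hord (dvd_mul_of_dvd_right ?_ _)
    rw [← hq]
    exact dvd_of_eta hq1.le he hη (hη.ne (by omega)) hle
  rw [← hq] at h42
  have hdiv' : ∀ r : ℕ, r.Prime → orderOf ((Nat.card F : ℕ) : ZMod r) = n →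
      r ∣ Nat.card (POmega F ⇑(quadPlus n F)) := by
    intro r hr he
    obtain ⟨hr2, hr3, hrq, -, -⟩ := prim_cond hr he (by omega)
    refine dvd_of_gcd_mul hr hr2 hord (dvd_mul_of_dvd_left (dvd_mul_of_dvd_right ?_ _) _)
    rw [← hq]
    exact dvd_of_orderOf hq1.le he dvd_rfl
  rcases Nat.even_or_odd n with hev | hodd
  · have ho : Odd (n - 1) := by
      obtain ⟨t, ht⟩ := hev
      exact ⟨t - 1, by omega⟩
    refine cocl_mk hq1 hna (e1 := 2 * (n - 1)) (e2 := n - 1) (e3 := 2 * (n - 2)) (by omega) (by omega) (by omega)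
      (eta_even _) (Or.inl ⟨ho, rfl⟩) (eta_even _) (by omega) (by omega) (by omega) (by omega)
      (by obtain ⟨t, ht⟩ := hev; omega) (by omega)
      (by omega) (by omega) (by omega) (rat_two (by omega)) (rat_lt (by omega) (by omega)) (rat_lt' (by omega) (by omega))
      ?_ ?_ ?_ fun r e hr he h => ?_
    · obtain ⟨t, ht⟩ := hev
      omega
    · obtain ⟨t, ht⟩ := hev
      omega
    · obtain ⟨t, ht⟩ := hev
      omega
    · rcases h with rfl | rfl | rfl
      · exact hdiv r _ (n - 1) hr he (by omega) (eta_even _) le_rfl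
      · exact hdiv r _ (n - 1) hr he (by omega) (Or.inl ⟨ho, rfl⟩) le_rfl
      · exact hdiv r _ (n - 2) hr he (by omega) (eta_even _) (by omega)
  · have hn5 : 5 ≤ n := by
      obtain ⟨t, ht⟩ := hodd
      omega
    by_cases hgen : Nat.card F = 2 → 6 ≤ n
    · refine cocl_mk hq1 hna (e1 := n) (e2 := 2 * (n - 1)) (e3 := 2 * (n - 2)) (by omega) (by omega) (by omega)
        (Or.inl ⟨hodd, rfl⟩) (eta_even _) (eta_even _) (by omega) (by omega) (by omega) (by omega) (by omega) (by omega)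
        (by omega) (by omega) (by omega) (rat_lt' (by omega) (by omega)) (rat_lt' (by omega) (by omega))
        (rat_lt (by omega) (by omega)) (by obtain ⟨t, ht⟩ := hodd; omega) (by omega) (by omega) fun r e hr he h => ?_
      rcases h with rfl | rfl | rfl
      · exact hdiv' r hr he
      · exact hdiv r _ (n - 1) hr he (by omega) (eta_even _) le_rfl
      · exact hdiv r _ (n - 2) hr he (by omega) (eta_even _) (by omega)
    · have hcases : n = 5 ∧ Nat.card F = 2 := by omega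
      obtain ⟨rfl, h⟩ := hcases
      refine cocl_mk hq1 hna (e1 := 5) (e2 := 2 * 4) (e3 := 3) (by omega) (by omega) (by omega)
        (Or.inl ⟨hodd, rfl⟩) (eta_even 4) (Or.inl ⟨by decide, rfl⟩) (by omega) (by omega) (by omega) (by omega) (by omega)
        (by omega) (by omega) (by omega) (by omega) (rat_lt' (by omega) (by omega)) (rat_lt (by omega) (by omega))
        (rat_lt (by omega) (by omega)) (by omega) (by omega) (by omega) fun r e hr he h => ?_
      rcases h with rfl | rfl | rfl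
      · exact hdiv' r hr he
      · exact hdiv r _ 4 hr he (by omega) (eta_even _) (by omega)
      · exact hdiv r _ 3 hr he (by omega) (Or.inl ⟨by decide, rfl⟩) (by omega)

end Cfsg.Agent.H390
end
end
end
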