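import Mathlib
import Cfsg.Agent.H365.Zsig
import Cfsg.Agent.H390.Cocl
import Cfsg.Agent.H390.AltAux
import Cfsg.Agent.H380.AltSpec
import Cfsg.Agent.S2466
import Cfsg.Agent.H403.CompFactor
import Cfsg.Agent.H395.Coclique
import Cfsg.Agent.S4008
import Cfsg.Agent.S5758
import Cfsg.Agent.FastGrp
import Cfsg.Agent.Prune
set_option linter.all false
prune_inst 0x7ffffefcbfbdf3ffffff7e7ffff9dffe3bd7dfffbfdffb4bffedfbffcfdfa3fb3bedfbaf1de4d8ffced7e2b638b87853f97eceffef6bdc7ffffd5ff45ffbee1ff7ffbfa911d79b74cf7c6ffffbf17fffffffffffffffffffffffffffffffffffffffffffffff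
open scoped Cfsg.Agent.FastGrp

-- part: H390/NumPh
section
/-!
# Small values of `Φ_e(q)` (helper390)

* `phiN`: a computable version of `Ph e q`;
* `mem_U`: the pairs `(e, q)` with `Φ_e(q) ≤ P ((2 e + 1) q ^ 2 + 1)`, `P` the largest prime divisor of `e`.
-/

set_option autoImplicit false

namespace Cfsg.Agent.H390.Num

open Cfsg.Agent.H365.Zsig Polynomial

/-- computable `Φ_e(q)` -/
def phiN : ℕ → ℕ → ℕ → ℕ
  | 0, _, _ => 1
  | k + 1, e, q => (q ^ e - 1) / (((List.range e).filter (fun d => decide (d ≠ 0 ∧ e % d = 0))).map (fun d => phiN k d q)).prod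

theorem prod_Ph {e q : ℕ} (he : 0 < e) (hq : 1 ≤ q) : ∏ d ∈ e.divisors, Ph d q = q ^ e - 1 := by
  have h := prod_cyclotomic_eq_X_pow_sub_one he ℤ
  have h1 := congrArg (fun f : ℤ[X] => f.eval (q : ℤ)) h
  simp only [eval_prod, Ph_cast hq, eval_sub, eval_pow, eval_X, eval_one] at h1
  have h2 : 1 ≤ q ^ e := Nat.one_le_pow _ _ hq
  zify [h2]
  exact h1

theorem Ph_pos {e q : ℕ} (he : 1 ≤ e) (hq : 2 ≤ q) : 0 < Ph e q := by
  rcases Nat.lt_or_ge 1 e with h | h
  · have := Ph_gt_one (n := e) (q := q) (by omega) hq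
    omega
  · obtain rfl : e = 1 := by omega
    rw [Ph, cyclotomic_one]
    simp
    omega

theorem phiN_eq {q : ℕ} (hq : 2 ≤ q) : ∀ (k e : ℕ), 1 ≤ e → e ≤ k → phiN k e q = Ph e q := by
  intro k
  induction k with
  | zero => intro e h1 h2; omega
  | succ k ih =>
    intro e h1 h2
    rw [phiN]
    have h3 : ((List.range e).filter (fun d => decide (d ≠ 0 ∧ e % d = 0))).map (fun d => phiN k d q) =
        ((List.range e).filter (fun d => decide (d ≠ 0 ∧ e % d = 0))).map (fun d => Ph d q) := by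
      apply List.map_congr_left
      intro d hd
      rw [List.mem_filter, List.mem_range, decide_eq_true_eq] at hd
      exact ih d (by omega) (by omega)
    rw [h3]
    have h4 : (((List.range e).filter (fun d => decide (d ≠ 0 ∧ e % d = 0))).map (fun d => Ph d q)).prod =
        ∏ d ∈ e.properDivisors, Ph d q := by
      have hnd : ((List.range e).filter (fun d => decide (d ≠ 0 ∧ e % d = 0))).Nodup :=
        List.nodup_range.filter _
      rw [← List.prod_toFinset _ hnd]
      apply Finset.prod_congr _ fun _ _ => rfl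
      ext d
      rw [List.mem_toFinset, List.mem_filter, List.mem_range, decide_eq_true_eq, Nat.mem_properDivisors,
        Nat.dvd_iff_mod_eq_zero]
      constructor
      · rintro ⟨h5, h6, h7⟩
        exact ⟨h7, h5⟩
      · rintro ⟨h5, h6⟩
        refine ⟨h6, ?_, h5⟩
        rintro rfl
        rw [Nat.mod_zero] at h5
        omega
    rw [h4]
    have h5 := prod_Ph (e := e) (q := q) (by omega) (by omega)
    rw [← Nat.cons_self_properDivisors (by omega : e ≠ 0), Finset.prod_cons] at h5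
    rw [← h5, Nat.mul_div_cancel]
    apply Finset.prod_pos
    intro d hd
    rw [Nat.mem_properDivisors] at hd
    exact Ph_pos (Nat.pos_of_dvd_of_pos hd.1 (by omega)) hq

/-! ### bounds -/

/-- the triples `(P, k, m)`, `e = P ^ (k + 1) m` -/
def T : List (ℕ × ℕ × ℕ) :=
  [(5, 0, 1), (5, 0, 2), (5, 0, 3), (5, 0, 4), (5, 0, 6), (7, 0, 1), (7, 0, 2), (7, 0, 3), (7, 0, 4), (7, 0, 6),
    (11, 0, 1), (11, 0, 2), (13, 0, 2), (3, 0, 8), (3, 0, 16), (3, 1, 1), (3, 1, 2), (3, 1, 4), (3, 2, 1), (3, 2, 2)]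

/-- the pairs `(e, q)` -/
def U : List (ℕ × ℕ) :=
  [(5, 2), (5, 3), (5, 4), (5, 5), (5, 6), (7, 2), (8, 2), (8, 3), (8, 4), (8, 5), (9, 2), (10, 2), (10, 3), (10, 4), (10, 5), (10, 6), (10, 7),
    (10, 8), (10, 9), (10, 10), (12, 2), (12, 3), (12, 4), (12, 5), (12, 6), (12, 7), (12, 8), (14, 2), (14, 3), (15, 2), (16, 2), (18, 2),
    (18, 3), (20, 2), (22, 2), (24, 2), (26, 2), (30, 2)]

/-- the exponent -/
def uu (P k m : ℕ) : ℕ := P ^ k * ((P - 2) * m.totient)

theorem check1 : ∀ P ∈ [5, 7, 11, 13, 17], ∀ k ∈ [0, 1], ∀ m ∈ List.range 51, m ≠ 0 → m % P ≠ 0 → uu P k m ≤ 15 →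
    2 ^ (uu P k m - 2) ≤ P * (2 * (P ^ (k + 1) * m) + 2) → (P, k, m) ∈ T := by
  decide +kernel

theorem check2 : ∀ k ∈ [0, 1, 2], ∀ j ∈ [0, 1, 2, 3, 4], uu 3 k (2 ^ j) ≤ 10 → 3 ≤ uu 3 k (2 ^ j) →
    2 ^ (uu 3 k (2 ^ j) - 2) ≤ 3 * (2 * (3 ^ (k + 1) * 2 ^ j) + 2) → (3, k, 2 ^ j) ∈ T := by
  decide +kernel

theorem check3 : ∀ t ∈ T, ∀ q ∈ List.range 120, 2 ≤ q → q ^ (uu t.1 t.2.1 t.2.2 - 2) ≤ t.1 * (2 * (t.1 ^ (t.2.1 + 1) * t.2.2) + 2) →
    phiN (t.1 ^ (t.2.1 + 1) * t.2.2) (t.1 ^ (t.2.1 + 1) * t.2.2) q ≤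
      t.1 * ((2 * (t.1 ^ (t.2.1 + 1) * t.2.2) + 1) * q ^ 2 + 1) → (t.1 ^ (t.2.1 + 1) * t.2.2, q) ∈ U := by
  decide +kernel

theorem check3' : ∀ t ∈ T, 3 ≤ uu t.1 t.2.1 t.2.2 ∧ t.1 * (2 * (t.1 ^ (t.2.1 + 1) * t.2.2) + 2) < 120 * 120 ∧
    (t.1 * (2 * (t.1 ^ (t.2.1 + 1) * t.2.2) + 2) < 120 ∨ 4 ≤ uu t.1 t.2.1 t.2.2) := by
  decide +kernel

theorem pow_bound3 : ∀ u : ℕ, 11 ≤ u → 36 * u + 6 < 2 ^ (u - 2) := by
  intro u hu
  induction u, hu using Nat.le_induction with
  | base => norm_num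
  | succ u hu ih =>
    have h : 2 ^ (u + 1 - 2) = 2 * 2 ^ (u - 2) := by
      rw [show u + 1 - 2 = (u - 2) + 1 by omega, pow_succ]; ring
    omega

theorem pow_bound5 : ∀ u : ℕ, 16 ≤ u → 100 * u ^ 3 + 90 * u < 27 * 2 ^ (u - 2) := by
  intro u hu
  induction u, hu using Nat.le_induction with
  | base => norm_num
  | succ u hu ih =>
    have h : 2 ^ (u + 1 - 2) = 2 * 2 ^ (u - 2) := by
      rw [show u + 1 - 2 = (u - 2) + 1 by omega, pow_succ]; ring
    have e1 : (u + 1) ^ 3 = u ^ 3 + 3 * u ^ 2 + 3 * u + 1 := by ring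
    have e2 : 16 * u ^ 2 ≤ u ^ 3 := by rw [pow_succ u 2, mul_comm]; exact Nat.mul_le_mul_left _ hu
    have e3 : 16 * u ≤ u ^ 2 := by rw [pow_two]; exact Nat.mul_le_mul_right _ hu
    omega

theorem key_of_bound {q P e u : ℕ} (hq : 2 ≤ q) (hP : 1 ≤ P) (hu : 2 ≤ u) (h : q ^ u ≤ P * ((2 * e + 1) * q ^ 2 + 1)) :
    q ^ (u - 2) ≤ P * (2 * e + 2) := by
  obtain ⟨v, rfl⟩ := Nat.exists_eq_add_of_le hu
  rw [show 2 + v - 2 = v by omega]
  have h2 : 4 ≤ q ^ 2 := by nlinarith only [hq]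
  have h1 : q ^ (2 + v) = q ^ 2 * q ^ v := pow_add _ _ _
  rw [h1] at h
  by_contra h3
  push Not at h3
  have h4 : q ^ 2 * (P * (2 * e + 2) + 1) ≤ q ^ 2 * q ^ v := Nat.mul_le_mul_left _ h3
  have h5 : P * ((2 * e + 1) * q ^ 2 + 1) ≤ q ^ 2 * (P * (2 * e + 2)) := by
    have h6 : (2 * e + 1) * q ^ 2 + 1 ≤ q ^ 2 * (2 * e + 2) := by linarith only [h2]
    calc P * ((2 * e + 1) * q ^ 2 + 1) ≤ P * (q ^ 2 * (2 * e + 2)) := Nat.mul_le_mul_left _ h6
      _ = _ := by ring
  have h7 : q ^ 2 * (P * (2 * e + 2) + 1) = q ^ 2 * (P * (2 * e + 2)) + q ^ 2 := by ring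
  omega

theorem le_of_T {q : ℕ} (hq : 2 ≤ q) {t : ℕ × ℕ × ℕ} (ht : t ∈ T)
    (h : Ph (t.1 ^ (t.2.1 + 1) * t.2.2) q ≤ t.1 * ((2 * (t.1 ^ (t.2.1 + 1) * t.2.2) + 1) * q ^ 2 + 1))
    (h2 : q ^ (uu t.1 t.2.1 t.2.2 - 2) ≤ t.1 * (2 * (t.1 ^ (t.2.1 + 1) * t.2.2) + 2)) :
    (t.1 ^ (t.2.1 + 1) * t.2.2, q) ∈ U := by
  obtain ⟨h3, h4, h5⟩ := check3' t ht
  have hq120 : q < 120 := by
    by_contra hcon
    push Not at hcon
    rcases h5 with h5 | h5
    · have h6 : q ^ 1 ≤ q ^ (uu t.1 t.2.1 t.2.2 - 2) := Nat.pow_le_pow_right (by omega) (by omega)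
      rw [pow_one] at h6
      omega
    · have h6 : q ^ 2 ≤ q ^ (uu t.1 t.2.1 t.2.2 - 2) := Nat.pow_le_pow_right (by omega) (by omega)
      nlinarith only [h2, h4, hcon, h6]
  have hpos : 1 ≤ t.1 ^ (t.2.1 + 1) * t.2.2 := by
    rcases Nat.eq_zero_or_pos (t.1 ^ (t.2.1 + 1) * t.2.2) with h6 | h6
    · exfalso
      have h7 : ∀ t ∈ T, t.1 ^ (t.2.1 + 1) * t.2.2 ≠ 0 := by decide +kernel
      exact h7 t ht h6
    · exact h6
  refine check3 t ht q (List.mem_range.2 hq120) hq h2 ?_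
  rw [phiN_eq hq _ _ hpos le_rfl]
  exact h

/-- `Φ_12(q)` -/
theorem Ph_twelve {q : ℕ} (hq : 2 ≤ q) : Ph 12 q * (q ^ 2 + 1) = q ^ 6 + 1 := by
  have h := Ph_mul (q := q) (P := 3) (k := 0) (m := 4) hq Nat.prime_three (by norm_num)
  have h4 : ∀ x : ℕ, 2 ≤ x → Ph 4 x = x ^ 2 + 1 := fun x hx => by
    have := Ph_two (q := x) (k := 1) hx
    simpa using this
  simp only [pow_zero, pow_one, zero_add] at h
  rw [h4 _ hq, h4 _ (hq.trans (Nat.le_self_pow (by norm_num) q))] at h
  rw [show 3 * 4 = 12 by norm_num] at h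
  rw [← h]
  ring

theorem mem_U {q e P : ℕ} (hq : 2 ≤ q) (he : 5 ≤ e) (he6 : e ≠ 6) (hP : P.Prime) (hPe : P ∣ e)
    (hmax : ∀ s : ℕ, s.Prime → s ∣ e → s ≤ P) (h : Ph e q ≤ P * ((2 * e + 1) * q ^ 2 + 1)) : (e, q) ∈ U := by
  obtain ⟨k', m, hm, hnk⟩ := Nat.exists_eq_pow_mul_and_not_dvd (n := e) (by omega) P hP.ne_one
  obtain ⟨k, rfl⟩ : ∃ k, k' = k + 1 := by
    rcases k' with _ | k
    · exfalso
      rw [pow_zero, one_mul] at hnk
      exact hm (hnk ▸ hPe)
    · exact ⟨k, rfl⟩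
  have hm0 : 0 < m := Nat.pos_of_ne_zero (by rintro rfl; exact hm (dvd_zero P))
  rcases Nat.lt_or_ge 2 P with hP3 | hP2
  swap
  · -- `P = 2`
    obtain rfl : P = 2 := le_antisymm hP2 hP.two_le
    have hm1 : m = 1 := by
      by_contra hne
      have h1 := Nat.minFac_prime hne
      have h2 := hmax _ h1 ((Nat.minFac_dvd m).trans (by rw [hnk]; exact Dvd.intro_left _ rfl))
      have h3 := h1.two_le
      have h4 : m.minFac = 2 := by omega
      exact hm (h4 ▸ Nat.minFac_dvd m)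
    subst hm1
    rw [mul_one] at hnk
    subst hnk
    rw [Ph_two hq] at h
    have h2k : 4 ≤ 2 ^ k := by
      rw [pow_succ] at he
      have : 2 ≤ k := by
        by_contra hk
        have : k = 0 ∨ k = 1 := by omega
        rcases this with rfl | rfl
        · norm_num at he
        · norm_num at he
      calc 4 = 2 ^ 2 := rfl
        _ ≤ 2 ^ k := Nat.pow_le_pow_right (by norm_num) this
    have h1 : q ^ 2 ^ k ≤ 2 * ((2 * 2 ^ (k + 1) + 1) * q ^ 2 + 1) := by omega
    have h2 := key_of_bound hq (by norm_num) (by omega) h1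
    have h3 : 2 ^ (2 ^ k - 2) ≤ q ^ (2 ^ k - 2) := Nat.pow_le_pow_left hq _
    have h4 : 2 ^ (k + 1) = 2 * 2 ^ k := by rw [pow_succ]; ring
    have h5 : 2 ^ k < 16 := by
      by_contra hcon
      push Not at hcon
      have h6 := pow_bound3 (2 ^ k) (by omega)
      rw [h4] at h2
      (clear * - h2 h3 h6; omega)
    have hk : k = 2 ∨ k = 3 := by
      have h6 : k < 4 := by
        by_contra hcon
        have : 2 ^ 4 ≤ 2 ^ k := Nat.pow_le_pow_right (by norm_num) (by omega)
        omega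
      have h7 : 2 ≤ k := by
        by_contra hcon
        have : 2 ^ k ≤ 2 ^ 1 := Nat.pow_le_pow_right (by norm_num) (by omega)
        omega
      omega
    rcases hk with rfl | rfl
    · norm_num only [_root_.Order.add_one_le_iff] at h2 h ⊢
      have hq6 : q < 6 := by
        by_contra hcon
        push Not at hcon
        have h8 : q ^ 4 = q ^ 2 * q ^ 2 := by ring
        have h9 : 36 ≤ q ^ 2 := by nlinarith only [hcon]
        nlinarith only [h, h9]
      interval_cases q <;> decide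
    · norm_num only [_root_.Order.add_one_le_iff] at h2 h ⊢
      have hq6 : q < 3 := by
        by_contra hcon
        push Not at hcon
        have h8 : 3 ^ 6 ≤ q ^ 6 := Nat.pow_le_pow_left hcon 6
        norm_num at h8
        omega
      interval_cases q
      decide
  · -- `P ≥ 3`
    have hge := Ph_ge (k := k) hq hP hP3 hm
    rw [← hnk] at hge
    have hu : q ^ uu P k m ≤ P * ((2 * e + 1) * q ^ 2 + 1) := hge.trans h
    have hx : 1 ≤ m.totient := Nat.totient_pos.2 hm0
    have hPk : 1 ≤ P ^ k := Nat.one_le_pow _ _ hP.pos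
    rcases Nat.lt_or_ge 4 P with hP5 | hP4
    · -- `P ≥ 5`
      have hu3 : 3 ≤ uu P k m := by
        rw [uu]
        have h1 : 3 ≤ (P - 2) * m.totient := by
          have : 3 * 1 ≤ (P - 2) * m.totient := Nat.mul_le_mul (by omega) hx
          omega
        calc 3 = 1 * 3 := rfl
          _ ≤ _ := Nat.mul_le_mul hPk h1
      have h1 := key_of_bound hq hP.one_lt.le (by omega) hu
      have h2 : 2 ^ (uu P k m - 2) ≤ P * (2 * e + 2) := (Nat.pow_le_pow_left hq _).trans h1
      have hm2 := le_two_mul_totient_sq hm0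
      have hA : uu P k m = P ^ k * (P - 2) * m.totient := by rw [uu]; ring
      set A := P ^ k * (P - 2) with hAdef
      have hA3 : 3 ≤ A := by
        calc 3 = 1 * 3 := rfl
          _ ≤ _ := Nat.mul_le_mul hPk (by omega)
      have hPA : 3 * P ≤ 5 * A := by
        have h3 : 3 * P ≤ 5 * (P - 2) := by omega
        have h4 : P - 2 ≤ A := by
          calc P - 2 = 1 * (P - 2) := (one_mul _).symm
            _ ≤ _ := Nat.mul_le_mul_right _ hPk
        omega
      have hPA2 : 3 * P ^ (k + 1) ≤ 5 * A := by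
        rw [hAdef, pow_succ]
        have h3 : 3 * P ≤ 5 * (P - 2) := by omega
        calc 3 * (P ^ k * P) = P ^ k * (3 * P) := by ring
          _ ≤ P ^ k * (5 * (P - 2)) := Nat.mul_le_mul_left _ h3
          _ = _ := by ring
      set x := m.totient with hxdef
      set u := uu P k m with hudef
      have hAx : A ≤ u := by rw [hA]; exact Nat.le_mul_of_pos_right _ hx
      have h3x : 3 * x ≤ u := by rw [hA]; exact Nat.mul_le_mul_right _ hA3
      have h9e : 9 * e ≤ 10 * u ^ 2 := by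
        have h4 : 3 * e ≤ 5 * A * (2 * x ^ 2) := by
          rw [hnk]
          calc 3 * (P ^ (k + 1) * m) = 3 * P ^ (k + 1) * m := by ring
            _ ≤ 5 * A * (2 * x ^ 2) := Nat.mul_le_mul hPA2 hm2
        have h5 : 3 * (5 * A * (2 * x ^ 2)) = 10 * ((A * x) * (3 * x)) := by ring
        have h6 : (A * x) * (3 * x) ≤ u * u := Nat.mul_le_mul (by rw [hA]) h3x
        linarith only [h4, h6]
      have hu15 : u ≤ 15 := by
        by_contra hcon
        push Not at hcon
        have h4 := pow_bound5 u (by omega)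
        have h5 : 27 * (P * (2 * e + 2)) ≤ 100 * u ^ 3 + 90 * u := by
          have h6 : 3 * P ≤ 5 * u := by omega
          calc 27 * (P * (2 * e + 2)) = (3 * P) * (2 * (9 * e) + 18) := by ring
            _ ≤ (5 * u) * (2 * (10 * u ^ 2) + 18) := Nat.mul_le_mul h6 (by omega)
            _ = 100 * u ^ 3 + 90 * u := by ring
        omega
      have hPle : P ≤ 17 := by
        have : P - 2 ≤ A := by
          calc P - 2 = 1 * (P - 2) := (one_mul _).symm
            _ ≤ _ := Nat.mul_le_mul_right _ hPk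
        omega
      have hPmem : P ∈ [5, 7, 11, 13, 17] := by
        interval_cases P <;> first | decide | (exfalso; revert hP; norm_num)
      have hkmem : k ∈ [0, 1] := by
        have hk2 : k < 2 := by
          by_contra hcon
          have h4 : P ^ 2 ≤ P ^ k := Nat.pow_le_pow_right hP.pos (by omega)
          have h5 : P ^ k ≤ A := Nat.le_mul_of_pos_right _ (by omega)
          have h6 : 25 ≤ P ^ 2 := by nlinarith only [hP5]
          omega
        interval_cases k <;> decide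
      have hmmem : m ∈ List.range 51 := by
        rw [List.mem_range]
        have h4 : x ≤ 5 := by omega
        have h5 : x ^ 2 ≤ 5 ^ 2 := Nat.pow_le_pow_left h4 2
        omega
      have hT := check1 P hPmem k hkmem m hmmem (by omega) (fun h3 => hm (Nat.dvd_of_mod_eq_zero h3)) hu15
        (by rw [← hnk]; exact h2)
      have := le_of_T hq hT (by
        simp only
        rw [← hnk]
        exact h) (by
        simp only
        rw [← hnk]
        exact h1)
      simp only at this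
      rwa [← hnk] at this
    · -- `P = 3`
      have hPeq : P = 3 := by
        interval_cases P
        · rfl
        · exfalso; revert hP; norm_num
      subst hPeq
      obtain ⟨j, l, hl, hml⟩ := Nat.exists_eq_two_pow_mul_odd (n := m) (by omega)
      have hl1 : l = 1 := by
        by_contra hne
        have h1 := Nat.minFac_prime hne
        have h2 := hmax _ h1 ((Nat.minFac_dvd l).trans (by rw [hnk, hml]; exact Dvd.dvd.mul_left (Dvd.intro_left _ rfl) _))
        have h3 := h1.two_le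
        have h4 : l.minFac = 2 ∨ l.minFac = 3 := by omega
        rcases h4 with h4 | h4
        · exact (Nat.not_even_iff_odd.2 hl) (even_iff_two_dvd.2 (h4 ▸ Nat.minFac_dvd l))
        · exact hm (by rw [hml]; exact Dvd.dvd.mul_left (h4 ▸ Nat.minFac_dvd l) _)
      rw [hl1, mul_one] at hml
      subst hml
      have he6u : e ≤ 6 * uu 3 k (2 ^ j) := by
        rw [hnk, uu]
        have h2j : 2 ^ j ≤ 2 * (2 ^ j).totient := by
          rcases j with _ | j
          · simp
          · rw [Nat.totient_prime_pow Nat.prime_two (Nat.succ_pos j), pow_succ]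
            simp only [_root_.Nat.succ_eq_add_one, _root_.add_tsub_cancel_right, _root_.Nat.add_one_sub_one, _root_.mul_one]
            omega
        have e1 : 3 ^ (k + 1) * 2 ^ j ≤ 3 ^ (k + 1) * (2 * (2 ^ j).totient) := Nat.mul_le_mul_left _ h2j
        have e2 : 3 ^ (k + 1) * (2 * (2 ^ j).totient) = 6 * (3 ^ k * (1 * (2 ^ j).totient)) := by
          rw [pow_succ]; ring
        rw [e2] at e1
        exact e1
      rcases Nat.lt_or_ge (uu 3 k (2 ^ j)) 3 with hu2 | hu3
      · -- `e = 12`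
        have he12 : e = 12 := by
          have h3k : 3 ^ k ≤ uu 3 k (2 ^ j) := by
            rw [uu]
            refine Nat.le_mul_of_pos_right _ ?_
            exact Nat.mul_pos (by norm_num) (Nat.totient_pos.2 (by positivity))
          have hk0 : k = 0 := by
            by_contra hne
            have : 3 ^ 1 ≤ 3 ^ k := Nat.pow_le_pow_right (by norm_num) (by omega)
            omega
          subst hk0
          have hj2 : j = 2 ∨ j < 2 := by
            by_contra hcon
            push Not at hcon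
            have hj : 3 ≤ j := by omega
            obtain ⟨i, rfl⟩ : ∃ i, j = i + 3 := ⟨j - 3, by omega⟩
            rw [uu, Nat.totient_prime_pow Nat.prime_two (by omega)] at hu2
            have : 2 ^ 2 ≤ 2 ^ (i + 3 - 1) := Nat.pow_le_pow_right (by norm_num) (by omega)
            rw [pow_zero] at hu2
            omega
          rcases hj2 with rfl | hj2
          · norm_num at hnk
            exact hnk
          · exfalso
            interval_cases j <;> norm_num at hnk <;> omega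
        subst he12
        have h12 := Ph_twelve hq
        have hq9 : q < 9 := by
          by_contra hcon
          push Not at hcon
          have h1 : q ^ 6 + 1 ≤ 3 * ((2 * 12 + 1) * q ^ 2 + 1) * (q ^ 2 + 1) := by
            rw [← h12]
            exact Nat.mul_le_mul_right _ h
          have h2 : 81 ≤ q ^ 2 := by nlinarith only [hcon]
          have h3 : q ^ 6 = q ^ 2 * q ^ 2 * q ^ 2 := by ring
          rw [h3] at h1
          set y := q ^ 2 with hy
          nlinarith only [h1, h2, Nat.mul_le_mul_right (y * y) h2]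
        interval_cases q <;> decide
      · have h1 := key_of_bound hq (by norm_num) (by omega) hu
        have h2 : 2 ^ (uu 3 k (2 ^ j) - 2) ≤ 3 * (2 * e + 2) := (Nat.pow_le_pow_left hq _).trans h1
        have hu10 : uu 3 k (2 ^ j) ≤ 10 := by
          by_contra hcon
          push Not at hcon
          have h4 := pow_bound3 _ hcon
          omega
        have hkmem : k ∈ [0, 1, 2] := by
          have h3k : 3 ^ k ≤ uu 3 k (2 ^ j) := by
            rw [uu]
            refine Nat.le_mul_of_pos_right _ ?_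
            exact Nat.mul_pos (by norm_num) (Nat.totient_pos.2 (by positivity))
          have hk3 : k < 3 := by
            by_contra hcon
            have : 3 ^ 3 ≤ 3 ^ k := Nat.pow_le_pow_right (by norm_num) (by omega)
            omega
          interval_cases k <;> decide
        have hjmem : j ∈ [0, 1, 2, 3, 4] := by
          have hj5 : j < 5 := by
            by_contra hcon
            obtain ⟨i, rfl⟩ : ∃ i, j = i + 5 := ⟨j - 5, by omega⟩
            have h3 : 2 ^ 4 ≤ uu 3 k (2 ^ (i + 5)) := by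
              rw [uu, Nat.totient_prime_pow Nat.prime_two (by omega)]
              calc 2 ^ 4 ≤ 2 ^ (i + 5 - 1) := Nat.pow_le_pow_right (by norm_num) (by omega)
                _ ≤ 3 ^ k * 2 ^ (i + 5 - 1) := Nat.le_mul_of_pos_left _ (by positivity)
                _ = _ := by simp only [_root_.Nat.add_one_sub_one, _root_.Nat.reduceSub, _root_.mul_one, _root_.one_mul]
            omega
          interval_cases j <;> decide
        have hT := check2 k hkmem j hjmem hu10 hu3 (by rw [← hnk]; exact h2)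
        have := le_of_T hq hT (by
          simp only
          rw [← hnk]
          exact h) (by
          simp only
          rw [← hnk]
          exact h1)
        simp only at this
        rwa [← hnk] at this

end Cfsg.Agent.H390.Num
end

-- part: H390/NumAlt
section
/-!
# The numerical elimination for alternating factors (helper390)
-/

set_option autoImplicit false

namespace Cfsg.Agent.H390.Num

open Cfsg.Agent.H365.Zsig Polynomial Cfsg.Agent.H390

/-- `Φ_e(q)` divides `P M` if the prime powers `s ^ a ∣ Φ_e(q)`, `s` primitive, divide `M` -/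
theorem Ph_dvd_gen {q e P M : ℕ} (hq : 2 ≤ q) (he : 3 ≤ e) (hP : P.Prime) (hPe : P ∣ e)
    (hmax : ∀ s : ℕ, s.Prime → s ∣ e → s ≤ P)
    (h : ∀ s a : ℕ, s.Prime → orderOf (q : ZMod s) = e → s ^ a ∣ Ph e q → s ^ a ∣ M) : Ph e q ∣ P * M := by
  rw [Nat.dvd_iff_prime_pow_dvd_dvd]
  intro s a hs ha
  rcases Nat.eq_zero_or_pos a with rfl | hapos
  · rw [pow_zero]; exact one_dvd _
  have hsd : s ∣ Ph e q := (dvd_pow_self s hapos.ne').trans ha
  rcases prime_dvd_Ph (by omega) hq hs hsd with h1 | ⟨k, m, h1, h2, h3, h4, h5⟩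
  · exact Dvd.dvd.mul_left (h s a hs h1 ha) _
  · have hsP := _root_.Cfsg.Agent.H365.Zsig.eq_max hs h1 h4 h5 hP hPe hmax
    have ha1 : a ≤ 1 := by
      by_contra hcon
      exact sq_not_dvd he hq hs h1 h2 h3 h4 h5 ((pow_dvd_pow s (by omega)).trans ha)
    obtain rfl : a = 1 := by omega
    rw [pow_one, hsP]
    exact Dvd.intro _ rfl

/-- for a single primitive prime -/
theorem Ph_eq_or {q e P r : ℕ} (hq : 2 ≤ q) (he : 3 ≤ e) (hP : P.Prime) (hPe : P ∣ e)
    (hmax : ∀ s : ℕ, s.Prime → s ∣ e → s ≤ P) (hr : r.Prime)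
    (hu : ∀ s : ℕ, s.Prime → orderOf (q : ZMod s) = e → s = r) (hsq : ¬ r ^ 2 ∣ q ^ e - 1) :
    Ph e q ∣ P * r := by
  refine Ph_dvd_gen hq he hP hPe hmax ?_
  intro s a hs hse ha
  have := hu s hs hse
  subst this
  have h1 : s ^ a ∣ q ^ e - 1 := ha.trans (Ph_dvd (by omega) (by omega))
  have ha1 : a ≤ 1 := by
    by_contra hcon
    exact hsq ((pow_dvd_pow s (by omega)).trans h1)
  interval_cases a
  · simp
  · simp

theorem exists_max_prime {e : ℕ} (he : 2 ≤ e) : ∃ P : ℕ, P.Prime ∧ P ∣ e ∧ ∀ s : ℕ, s.Prime → s ∣ e → s ≤ P := by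
  classical
  have hne : e.primeFactors.Nonempty := Nat.nonempty_primeFactors.2 (by omega)
  obtain ⟨P, hP, hmax⟩ := Finset.exists_max_image e.primeFactors id hne
  rw [Nat.mem_primeFactors] at hP
  exact ⟨P, hP.1, hP.2.1, fun s hs hse => hmax s (Nat.mem_primeFactors.2 ⟨hs, hse, hP.2.2⟩)⟩

/-- the hypotheses in the alternating case -/
structure AltHyp (p f q e n D r k : ℕ) : Prop where
  hp : p.Prime
  hf : 1 ≤ f
  hq : q = p ^ f
  rel : Rel q e n D
  hr : r.Prime
  ord : orderOf (q : ZMod r) = e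
  uniq : ∀ s : ℕ, s.Prime → orderOf (q : ZMod s) = e → s = r
  sq : ¬ r ^ 2 ∣ q ^ e - 1
  rk : r ≤ k
  kD : ∀ b : ℕ, D ≤ p ^ b → k < p ^ (b + 1) + 2
  primes : ∀ t : ℕ, t.Prime → t ≤ r → t = p ∨ ∃ i, 1 ≤ i ∧ i ≤ n ∧ t ∣ q ^ (2 * i) - 1
  e4 : e = 4 → 4 ≤ q

theorem AltHyp.two_le {p f q e n D r k : ℕ} (h : AltHyp p f q e n D r k) : 2 ≤ q := by
  rw [h.hq]
  exact h.hp.two_le.trans (Nat.le_self_pow (by have := h.hf; omega) p)

theorem Rel.three_le {q e n D : ℕ} (h : Rel q e n D) : 3 ≤ e := by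
  rcases h with ⟨_, h, _⟩ | ⟨_, h, _⟩ <;> omega

theorem Rel.D_le {q e n D : ℕ} (h : Rel q e n D) : D ≤ 2 * e + 2 := by
  rcases h with ⟨_, h, _, _, _, _, h2⟩ | ⟨_, h, _, _, h2⟩ <;> omega

/-- the bound for `k` -/
theorem k_le {p D k B : ℕ} (hp : p.Prime) (hD : ∀ b : ℕ, D ≤ p ^ b → k < p ^ (b + 1) + 2) (hDB : D ≤ B) (hB : 2 ≤ B) :
    k ≤ (B - 1) * p ^ 2 + 1 := by
  -- minimal `b` with `B ≤ p ^ b`
  have hex : ∃ b, B ≤ p ^ b := ⟨B, (Nat.lt_pow_self hp.one_lt).le⟩
  classical
  set b := Nat.find hex with hb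
  have h1 : B ≤ p ^ b := Nat.find_spec hex
  have hb0 : b ≠ 0 := by
    intro h0
    rw [h0, pow_zero] at h1
    omega
  obtain ⟨c, hc⟩ := Nat.exists_eq_succ_of_ne_zero hb0
  have h2 : p ^ c < B := by
    have := Nat.find_min hex (m := c) (by omega)
    omega
  have h3 := hD b (hDB.trans h1)
  rw [hc, Nat.succ_eq_add_one, show c + 1 + 1 = c + 2 by omega, pow_add] at h3
  have h4 : p ^ c * p ^ 2 ≤ (B - 1) * p ^ 2 := Nat.mul_le_mul_right _ (by omega)
  omega

theorem AltHyp.r_le {p f q e n D r k : ℕ} (h : AltHyp p f q e n D r k) {B : ℕ} (hDB : D ≤ B) (hB : 2 ≤ B) :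
    r ≤ (B - 1) * p ^ 2 + 1 := h.rk.trans (k_le h.hp h.kD hDB hB)

theorem p_le {p f q : ℕ} (hf : 1 ≤ f) (hq : q = p ^ f) : p ≤ q := by
  rw [hq]
  exact Nat.le_self_pow (by omega) p

/-! ### `e ∈ {3, 4, 6}` -/

theorem factor6 {q : ℕ} (hq : 2 ≤ q) : q ^ 6 - 1 = (q ^ 2 - 1) * ((q ^ 2 + q + 1) * (q ^ 2 - q + 1)) := by
  have h1 : q ≤ q ^ 2 := Nat.le_self_pow (by norm_num) q
  have h2 : 1 ≤ q ^ 2 := Nat.one_le_pow _ _ (by omega)
  have h3 : 1 ≤ q ^ 6 := Nat.one_le_pow _ _ (by omega)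
  zify [h1, h2, h3]
  ring

theorem factor4 {q : ℕ} (hq : 2 ≤ q) : q ^ 4 - 1 = (q ^ 2 - 1) * (q ^ 2 + 1) := by
  have h2 : 1 ≤ q ^ 2 := Nat.one_le_pow _ _ (by omega)
  have h3 : 1 ≤ q ^ 4 := Nat.one_le_pow _ _ (by omega)
  zify [h2, h3]
  ring

theorem le_of_dvd2 {q t : ℕ} (hq : 2 ≤ q) (ht : t.Prime) (h : t ∣ q ^ 2 - 1) : t ≤ q + 1 := by
  have h1 : q ^ 2 - 1 = (q - 1) * (q + 1) := by
    obtain ⟨c, rfl⟩ : ∃ c, q = c + 1 := ⟨q - 1, by omega⟩
    simp only [_root_.add_tsub_cancel_right]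
    ring_nf
    omega
  rw [h1, ht.dvd_mul] at h
  rcases h with h | h
  · have := Nat.le_of_dvd (by omega) h
    omega
  · exact Nat.le_of_dvd (by omega) h

/-- two primes above `q + 1` cannot both divide a number `≤ q ^ 2 + q + 1` -/
theorem not_both {q a t s : ℕ} (ht : t.Prime) (hs : s.Prime) (h1 : q + 1 < t) (h2 : t < s) (ha : 0 < a)
    (ha2 : a ≤ q ^ 2 + q + 1) (hta : t ∣ a) (hsa : s ∣ a) : False := by
  have h3 : t * s ∣ a := Nat.Coprime.mul_dvd_of_dvd_of_dvd ((Nat.coprime_primes ht hs).2 (by omega)) hta hsa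
  have h4 := Nat.le_of_dvd ha h3
  have h5 : (q + 2) * (q + 3) ≤ t * s := Nat.mul_le_mul (by omega) (by omega)
  linarith only [ha2, h4, h5]

/-- the case `n ≤ 3`: a prime `t > q + 1` divides `q ^ 2 + 1`, `q ^ 2 + q + 1` or `q ^ 2 - q + 1` -/
theorem cases3 {p q t n : ℕ} (hq : 2 ≤ q) (hpq : p ≤ q) (ht : t.Prime) (h1 : q + 1 < t) (hn : n ≤ 3)
    (h : t = p ∨ ∃ i, 1 ≤ i ∧ i ≤ n ∧ t ∣ q ^ (2 * i) - 1) :
    t ∣ q ^ 2 + 1 ∨ t ∣ q ^ 2 + q + 1 ∨ t ∣ q ^ 2 - q + 1 := by
  rcases h with h | ⟨i, hi1, hi2, h⟩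
  · omega
  · have hi3 : i ≤ 3 := by omega
    interval_cases i
    · have := le_of_dvd2 hq ht h
      omega
    · rw [show 2 * 2 = 4 by norm_num, factor4 hq, ht.dvd_mul] at h
      rcases h with h | h
      · have := le_of_dvd2 hq ht h
        omega
      · exact Or.inl h
    · rw [show 2 * 3 = 6 by norm_num, factor6 hq, ht.dvd_mul, ht.dvd_mul] at h
      rcases h with h | h | h
      · have := le_of_dvd2 hq ht h
        omega
      · exact Or.inr (Or.inl h)
      · exact Or.inr (Or.inr h)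

/-- Bertrand three times -/
theorem bertrand3 {q r : ℕ} (h : 8 * (q + 1) < r) : ∃ t₁ t₂ t₃ : ℕ, t₁.Prime ∧ t₂.Prime ∧ t₃.Prime ∧ q + 1 < t₁ ∧ t₁ < t₂ ∧
    t₂ < t₃ ∧ t₃ < r := by
  obtain ⟨t₁, h1, h1a, h1b⟩ := Nat.exists_prime_lt_and_le_two_mul (q + 1) (by omega)
  obtain ⟨t₂, h2, h2a, h2b⟩ := Nat.exists_prime_lt_and_le_two_mul t₁ (by omega)
  obtain ⟨t₃, h3, h3a, h3b⟩ := Nat.exists_prime_lt_and_le_two_mul t₂ (by omega)
  exact ⟨t₁, t₂, t₃, h1, h2, h3, h1a, h2a, h3a, by omega⟩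

theorem bertrand_false {p q n r c : ℕ} (hq : 2 ≤ q) (hpq : p ≤ q) (hn : n ≤ 3) (hr : r.Prime)
    (hc : c = q ^ 2 + q + 1 ∨ c = q ^ 2 - q + 1)
    (hrc : ∀ t : ℕ, t.Prime → t < r → t ∣ q ^ 2 + 1 ∨ t ∣ q ^ 2 + q + 1 ∨ t ∣ q ^ 2 - q + 1 → t ∣ q ^ 2 + 1 ∨ t ∣ c)
    (h8 : 8 * (q + 1) < r)
    (h : ∀ t : ℕ, t.Prime → t ≤ r → t = p ∨ ∃ i, 1 ≤ i ∧ i ≤ n ∧ t ∣ q ^ (2 * i) - 1) : False := by
  obtain ⟨t₁, t₂, t₃, h1, h2, h3, h4, h5, h6, h7⟩ := bertrand3 h8
  have g1 := hrc t₁ h1 (by omega) (cases3 hq hpq h1 (by omega) hn (h t₁ h1 (by omega)))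
  have g2 := hrc t₂ h2 (by omega) (cases3 hq hpq h2 (by omega) hn (h t₂ h2 (by omega)))
  have g3 := hrc t₃ h3 (by omega) (cases3 hq hpq h3 (by omega) hn (h t₃ h3 (by omega)))
  have hA : 0 < q ^ 2 + 1 := by omega
  have hA2 : q ^ 2 + 1 ≤ q ^ 2 + q + 1 := by omega
  have hC : 0 < c := by rcases hc with rfl | rfl <;> omega
  have hC2 : c ≤ q ^ 2 + q + 1 := by rcases hc with rfl | rfl <;> omega
  rcases g1 with g1 | g1 <;> rcases g2 with g2 | g2 <;> rcases g3 with g3 | g3
  · exact not_both h1 h2 h4 h5 hA hA2 g1 g2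
  · exact not_both h1 h2 h4 h5 hA hA2 g1 g2
  · exact not_both h1 h3 h4 (by omega) hA hA2 g1 g3
  · exact not_both h2 h3 (by omega) h6 hC hC2 g2 g3
  · exact not_both h2 h3 (by omega) h6 hA hA2 g2 g3
  · exact not_both h1 h3 h4 (by omega) hC hC2 g1 g3
  · exact not_both h1 h2 h4 h5 hC hC2 g1 g2
  · exact not_both h1 h2 h4 h5 hC hC2 g1 g2

theorem Ph_three (q : ℕ) (hq : 2 ≤ q) : Ph 3 q = q ^ 2 + q + 1 := by
  have h : ((cyclotomic 3 ℤ).eval (q : ℤ)) = (q : ℤ) ^ 2 + q + 1 := by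
    rw [cyclotomic_three]; simp
  have : (Ph 3 q : ℤ) = ((q ^ 2 + q + 1 : ℕ) : ℤ) := by rw [← Ph_cast (by omega), h]; push_cast; ring
  exact_mod_cast this

theorem Ph_six (q : ℕ) (hq : 2 ≤ q) : Ph 6 q = q ^ 2 - q + 1 := by
  have h : ((cyclotomic 6 ℤ).eval (q : ℤ)) = (q : ℤ) ^ 2 - q + 1 := by
    rw [cyclotomic_six]; simp
  have h1 : q ≤ q ^ 2 := Nat.le_self_pow (by norm_num) q
  have : (Ph 6 q : ℤ) = ((q ^ 2 - q + 1 : ℕ) : ℤ) := by
    rw [← Ph_cast (by omega), h]; push_cast [Nat.cast_sub h1]; ring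
  exact_mod_cast this

theorem Ph_four (q : ℕ) (hq : 2 ≤ q) : Ph 4 q = q ^ 2 + 1 := by
  have := Ph_two (q := q) (k := 1) hq
  simpa using this

/-- the number `c` divides `P r`, `P ∤ c`, so `c ∣ r` -/
theorem eq_of_dvd {c P r : ℕ} (hr : r.Prime) (hP : P.Prime) (h : c ∣ P * r) (hPc : ¬ P ∣ c) (hc : 1 < c) : c = r := by
  have h1 : Nat.Coprime c P := by
    rw [Nat.coprime_comm, Nat.Prime.coprime_iff_not_dvd hP]
    exact hPc
  have h2 := Nat.Coprime.dvd_of_dvd_mul_left h1 h
  rcases (Nat.dvd_prime hr).1 h2 with h3 | h3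
  · omega
  · exact h3

theorem pf_lt {p f B : ℕ} (hp : p.Prime) (hf : 1 ≤ f) (h : p ^ f < B) : p < B ∧ 2 ^ f < B :=
  ⟨(Nat.le_self_pow (by omega) p).trans_lt h, (Nat.pow_le_pow_left hp.two_le f).trans_lt h⟩

/-- the small prime powers -/
theorem small_pf {p f : ℕ} (hp : p.Prime) (hf : 1 ≤ f) (h : p ^ f < 11) :
    p ∈ [2, 3, 5, 7] ∧ f ∈ [1, 2, 3] := by
  obtain ⟨h1, h2⟩ := pf_lt hp hf h
  have hf4 : f < 4 := by
    by_contra hcon
    have : 2 ^ 4 ≤ 2 ^ f := Nat.pow_le_pow_right (by norm_num) (by omega)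
    omega
  constructor
  · interval_cases p <;> first | decide | (exfalso; revert hp; norm_num)
  · interval_cases f <;> decide

theorem alt3 {p f q n D r k : ℕ} (h : AltHyp p f q 3 n D r k) : q = 2 := by
  have hq := h.two_le
  have hrel := h.rel
  have h3 : q % 3 ≠ 1 ∧ n ≤ 3 := by
    rcases hrel with ⟨h1, _⟩ | ⟨_, _, h1, h2, _⟩
    · exact absurd h1 (by decide)
    · exact ⟨h1, h2⟩
  have hd := Ph_eq_or hq (le_refl 3) Nat.prime_three dvd_rfl (fun s hs h => Nat.le_of_dvd (by norm_num) h) h.hr h.uniq h.sq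
  have h9 : ¬ 3 ∣ q ^ 2 + q + 1 := by
    intro h9
    have h10 : (q ^ 2 + q + 1) % 3 = 0 := Nat.mod_eq_zero_of_dvd h9
    have h11 : q % 3 = 0 ∨ q % 3 = 2 := by (clear * - h3; omega)
    rcases h11 with h11 | h11 <;> simp only [Nat.add_mod, Nat.pow_mod, h11, _root_.ne_eq, _root_.OfNat.ofNat_ne_zero, _root_.not_false_eq_true, _root_.zero_pow, _root_.Nat.zero_mod, _root_.add_zero, _root_.Nat.one_mod, _root_.zero_add, _root_.one_ne_zero, _root_.Nat.reducePow, _root_.Nat.reduceMod, _root_.Nat.reduceAdd, _root_.Nat.mod_self] at h10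
  rw [Ph_three q hq] at hd
  have hreq := eq_of_dvd h.hr Nat.prime_three hd h9 (by linarith only [hq, _root_.sq_nonneg (↑q : ℤ)])
  by_contra hne
  rcases Nat.lt_or_ge q 8 with h8 | h8
  · have hpf := small_pf h.hp h.hf (by rw [← h.hq]; omega)
    have hpr := h.primes 11 (by norm_num)
    rw [← hreq] at hpr
    have hq' : q = 3 ∨ q = 5 := by
      have hch : ∀ p ∈ [2, 3, 5, 7], ∀ f ∈ [1, 2, 3], p ^ f < 8 → p ^ f % 3 ≠ 1 → p ^ f ≠ 2 → p ^ f = 3 ∨ p ^ f = 5 := by
        decide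
      have := hch p hpf.1 f hpf.2
      rw [← h.hq] at this
      exact this h8 h3.1 hne
    have hp11 : (11 : ℕ) ≠ p := by
      rintro rfl
      have := p_le h.hf h.hq
      omega
    rcases hq' with rfl | rfl
    · rcases hpr (by norm_num) with h12 | ⟨i, hi1, hi2, h12⟩
      · exact hp11 h12
      · have : i ≤ 3 := by omega
        interval_cases i <;> revert h12 <;> decide
    · rcases hpr (by norm_num) with h12 | ⟨i, hi1, hi2, h12⟩
      · exact hp11 h12
      · have : i ≤ 3 := by omega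
        interval_cases i <;> revert h12 <;> decide
  · refine bertrand_false hq (p_le h.hf h.hq) h3.2 h.hr (Or.inr rfl) ?_ ?_ h.primes
    · intro t ht htr h1
      rcases h1 with h1 | h1 | h1
      · exact Or.inl h1
      · rw [hreq, Nat.prime_dvd_prime_iff_eq ht h.hr] at h1
        omega
      · exact Or.inr h1
    · rw [← hreq]
      nlinarith only [h8]

theorem alt6 {p f q n D r k : ℕ} (h : AltHyp p f q 6 n D r k) : False := by
  have hq := h.two_le
  have hrel := h.rel
  have h3 : q % 3 = 1 ∧ n ≤ 3 := by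
    rcases hrel with ⟨_, _, _, h1, _, h2, _⟩ | ⟨h1, _⟩
    · exact ⟨h1 rfl, by have := h2 le_rfl; omega⟩
    · exact absurd h1 (by decide)
  have hd := Ph_eq_or hq (by norm_num : 3 ≤ 6) Nat.prime_three (by norm_num) (fun s hs h => by
    have h1 : s ∣ 2 * 3 := h
    rcases hs.dvd_mul.1 h1 with h2 | h2
    · have := Nat.le_of_dvd (by norm_num) h2
      omega
    · exact Nat.le_of_dvd (by norm_num) h2) h.hr h.uniq h.sq
  have hq2 : q ≤ q ^ 2 := Nat.le_self_pow (by norm_num) q
  have h9 : ¬ 3 ∣ q ^ 2 - q + 1 := by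
    intro h9
    obtain ⟨c, hc⟩ := h9
    have h10 : q ^ 2 + 1 = 3 * c + q := by omega
    have h11 := congrArg (· % 3) h10
    simp [Nat.add_mod, Nat.pow_mod, Nat.mul_mod, h3.1] at h11
  rw [Ph_six q hq] at hd
  have hreq := eq_of_dvd h.hr Nat.prime_three hd h9 (by
    have : q < q ^ 2 := by nlinarith only [hq]
    omega)
  rcases Nat.lt_or_ge q 10 with h8 | h8
  · have hpf := small_pf h.hp h.hf (by rw [← h.hq]; omega)
    have hpr := h.primes 11 (by norm_num)
    rw [← hreq] at hpr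
    have hq' : q = 4 ∨ q = 7 := by omega
    have hp11 : (11 : ℕ) ≠ p := by
      rintro rfl
      have := p_le h.hf h.hq
      omega
    rcases hq' with rfl | rfl
    · rcases hpr (by norm_num) with h12 | ⟨i, hi1, hi2, h12⟩
      · exact hp11 h12
      · have : i ≤ 3 := by omega
        interval_cases i <;> revert h12 <;> decide
    · rcases hpr (by norm_num) with h12 | ⟨i, hi1, hi2, h12⟩
      · exact hp11 h12
      · have : i ≤ 3 := by omega
        interval_cases i <;> revert h12 <;> decide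
  · refine bertrand_false hq (p_le h.hf h.hq) h3.2 h.hr (Or.inl rfl) ?_ ?_ h.primes
    · intro t ht htr h1
      rcases h1 with h1 | h1 | h1
      · exact Or.inl h1
      · exact Or.inr h1
      · rw [hreq, Nat.prime_dvd_prime_iff_eq ht h.hr] at h1
        omega
    · rw [← hreq]
      have : 9 * q + 8 < q ^ 2 := by nlinarith only [h8]
      omega

theorem alt4 {p f q n D r k : ℕ} (h : AltHyp p f q 4 n D r k) : False := by
  have hq := h.two_le
  have hq4 := h.e4 rfl
  have hn : n ≤ 2 := by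
    rcases h.rel with ⟨_, _, _, h1, _, h2, _⟩ | ⟨h1, _⟩
    · have := h2 (by norm_num); omega
    · exact absurd h1 (by decide)
  have hd := Ph_eq_or hq (by norm_num : 3 ≤ 4) Nat.prime_two (by norm_num) (fun s hs h => by
    have h1 : s ∣ 2 ^ 2 := h
    exact Nat.le_of_dvd (by norm_num) (hs.dvd_of_dvd_pow h1)) h.hr h.uniq h.sq
  rw [Ph_four q hq] at hd
  -- a prime `t < r`, `t > q + 1`
  have key : ∀ t : ℕ, t.Prime → q + 1 < t → t < r → False := by
    intro t ht h1 h2
    rcases h.primes t ht h2.le with h3 | ⟨i, hi1, hi2, h3⟩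
    · have := p_le h.hf h.hq
      omega
    · have : i ≤ 2 := by omega
      interval_cases i
      · have := le_of_dvd2 hq ht h3
        omega
      · rw [show 2 * 2 = 4 by norm_num, factor4 hq, ht.dvd_mul] at h3
        rcases h3 with h3 | h3
        · have := le_of_dvd2 hq ht h3
          omega
        · have h4 := h3.trans hd
          rcases ht.dvd_mul.1 h4 with h5 | h5
          · have := Nat.le_of_dvd (by norm_num) h5
            omega
          · rw [Nat.prime_dvd_prime_iff_eq ht h.hr] at h5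
            omega
  have hle : q ^ 2 + 1 ≤ 2 * r := Nat.le_of_dvd (by have := h.hr.pos; omega) hd
  rcases Nat.lt_or_ge q 6 with h8 | h8
  · have hq' : q = 4 ∨ q = 5 := by omega
    rcases hq' with rfl | rfl
    · exact key 7 (by norm_num) (by norm_num) (by omega)
    · exact key 7 (by norm_num) (by norm_num) (by omega)
  · obtain ⟨t, ht, h1, h2⟩ := Nat.exists_prime_lt_and_le_two_mul (q + 1) (by omega)
    refine key t ht h1 ?_
    nlinarith only [hle, h8, h2]

/-! ### `e ≥ 5`, `e ≠ 6` -/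

def Dm (e : ℕ) : ℕ := if e % 2 = 0 then e + 2 else 2 * e + 2

def nm (e : ℕ) : ℕ := if e % 2 = 0 then e / 2 + 1 else e

theorem Rel.le_Dm {q e n D : ℕ} (h : Rel q e n D) : D ≤ Dm e ∧ n ≤ nm e := by
  rw [Dm, nm]
  rcases h with ⟨h1, h, _, _, h3, _, h2⟩ | ⟨h1, h, _, h3, h2⟩
  · rw [Nat.even_iff] at h1
    rw [if_pos h1, if_pos h1]
    omega
  · rw [Nat.odd_iff] at h1
    rw [if_neg (by omega), if_neg (by omega)]
    omega

theorem Rel.mod {q e n D : ℕ} (h : Rel q e n D) : (e % 2 = 0 → e % 4 = 0 ∨ q % 3 ≠ 2) ∧ (e % 2 = 1 → q % 3 ≠ 1) := by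
  rcases h with ⟨h1, h, h4, _, h3, _, h2⟩ | ⟨h1, h, h4, h3, h2⟩
  · rw [Nat.even_iff] at h1
    exact ⟨fun _ => h4, fun h => by omega⟩
  · rw [Nat.odd_iff] at h1
    exact ⟨fun h => by omega, fun _ => h4⟩

theorem check : ∀ p ∈ [2, 3, 5, 7], ∀ f ∈ [1, 2, 3], ∀ u ∈ U, u.2 = p ^ f → ∀ c ∈ List.range 31, c ≠ 0 → u.1 % c = 0 →
    phiN u.1 u.1 u.2 % c = 0 → (phiN u.1 u.1 u.2) / c ≤ (Dm u.1 - 1) * p ^ 2 + 1 →
    ((u.1 % 2 = 0 → u.1 % 4 = 0 ∨ u.2 % 3 ≠ 2) ∧ (u.1 % 2 = 1 → u.2 % 3 ≠ 1)) →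
    (u.1 = 12 ∧ u.2 = 2) ∨ (∃ d ∈ [2, 3, 5, 7, 11, 13, 17, 19, 23, 29, 31], (phiN u.1 u.1 u.2) / c % d = 0 ∧ d ≠ (phiN u.1 u.1 u.2) / c) ∨
    (∃ t ∈ [7, 11, 13, 17, 19, 23, 29], t ≤ (phiN u.1 u.1 u.2) / c ∧ t ≠ p ∧
      ∀ i ∈ List.range (nm u.1 + 1), i ≠ 0 → (u.2 ^ (2 * i) - 1) % t ≠ 0) := by
  decide +kernel

theorem alt_big {p f q e n D r k : ℕ} (h : AltHyp p f q e n D r k) (he : 5 ≤ e) (he6 : e ≠ 6) : e = 12 ∧ q = 2 := by
  have hq := h.two_le
  obtain ⟨P, hP, hPe, hmax⟩ := exists_max_prime (e := e) (by omega)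
  have hd := Ph_eq_or hq (by omega) hP hPe hmax h.hr h.uniq h.sq
  have hpq := p_le h.hf h.hq
  have hrle := h.r_le (Rel.D_le h.rel) (by omega)
  have hPpos := hP.pos
  have hle : Ph e q ≤ P * ((2 * e + 1) * q ^ 2 + 1) := by
    refine (Nat.le_of_dvd (Nat.mul_pos hPpos h.hr.pos) hd).trans (Nat.mul_le_mul_left _ (hrle.trans ?_))
    have h1 : p ^ 2 ≤ q ^ 2 := Nat.pow_le_pow_left hpq 2
    have h2 : 2 * e + 2 - 1 = 2 * e + 1 := by omega
    rw [h2]
    have := Nat.mul_le_mul_left (2 * e + 1) h1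
    omega
  have hU := mem_U hq he he6 hP hPe hmax hle
  have hUb : ∀ u ∈ U, u.1 ≤ 30 ∧ u.2 ≤ 10 := by decide
  have hb := hUb _ hU
  simp only at hb
  have hpf := small_pf h.hp h.hf (by rw [← h.hq]; omega)
  -- `Φ_e(q) = c r`
  have hrPh : r ∣ Ph e q := by
    by_contra hcon
    have h1 : Nat.Coprime (Ph e q) r := (Nat.coprime_comm.1 ((Nat.Prime.coprime_iff_not_dvd h.hr).2 hcon))
    have h2 := Nat.Coprime.dvd_of_dvd_mul_right h1 hd
    rcases (Nat.dvd_prime hP).1 h2 with h3 | h3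
    · have := Ph_gt_one (n := e) (q := q) (by omega) hq
      omega
    · -- then no primitive prime: `r ∣ q ^ e - 1` as order `e`
      have h4 : r ∣ q ^ e - 1 := dvd_of_orderOf (by omega) h.ord dvd_rfl
      have h5 := prod_Ph (e := e) (q := q) (by omega) (by omega)
      rw [← h5, Prime.dvd_finsetProd_iff h.hr.prime] at h4
      obtain ⟨d, hd1, hd2⟩ := h4
      have hde := Nat.dvd_of_mem_divisors hd1
      have hd0 := Nat.pos_of_mem_divisors hd1
      have h6 : r ∣ q ^ d - 1 := hd2.trans (Ph_dvd hd0 (by omega))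
      rw [Cfsg.Agent.Lib.Zsigmondy.dvd_pow_sub_one_iff (by omega), h.ord] at h6
      have h7 : d = e := Nat.dvd_antisymm hde h6
      subst h7
      exact hcon hd2
  obtain ⟨c, hc⟩ := hrPh
  have hcP : c ∣ P := by
    rw [hc, mul_comm P r] at hd
    exact Nat.dvd_of_mul_dvd_mul_left h.hr.pos hd
  have hce : c ∣ e := hcP.trans hPe
  have hc0 : c ≠ 0 := by
    rintro rfl
    have := Ph_gt_one (n := e) (q := q) (by omega) hq
    omega
  have hc31 : c ∈ List.range 31 := by
    rw [List.mem_range]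
    have := Nat.le_of_dvd (by omega) hce
    omega
  have hphi := phiN_eq hq e e (by omega) le_rfl
  have hdiv : phiN e e q / c = r := by
    rw [hphi, hc, Nat.mul_div_cancel _ (Nat.pos_of_ne_zero hc0)]
  have hDm := (Rel.le_Dm h.rel)
  have hk := h.r_le hDm.1 (by rw [Dm]; split_ifs <;> omega)
  have hch := check p hpf.1 f hpf.2 (e, q) hU h.hq c hc31 hc0 (Nat.mod_eq_zero_of_dvd hce)
    (by simp only; rw [hphi, hc]; exact Nat.mul_mod_left _ _) (by simp only; rw [hdiv]; exact hk) (Rel.mod h.rel)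
  simp only at hch
  rw [hdiv] at hch
  rcases hch with h1 | ⟨d, hdl, h1, h2⟩ | ⟨t, htl, h1, h2, h3⟩
  · exact h1
  · exfalso
    have hd1 : d ≠ 1 := by
      rintro rfl
      revert hdl
      decide
    rcases (Nat.dvd_prime h.hr).1 (Nat.dvd_of_mod_eq_zero h1) with h4 | h4
    · exact hd1 h4
    · exact h2 h4
  · exfalso
    have htp : t.Prime := by
      have : ∀ t ∈ [7, 11, 13, 17, 19, 23, 29], t.Prime := by
        intro t ht
        simp only [List.mem_cons, List.not_mem_nil, or_false] at ht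
        rcases ht with rfl | rfl | rfl | rfl | rfl | rfl | rfl <;> norm_num
      exact this t htl
    rcases h.primes t htp h1 with h4 | ⟨i, hi1, hi2, h4⟩
    · exact h2 h4
    · exact h3 i (List.mem_range.2 (by omega)) (by omega) (Nat.mod_eq_zero_of_dvd h4)

/-- **The numerical elimination.** -/
theorem alt_all {p f q e n D r k : ℕ} (h : AltHyp p f q e n D r k) : q = 2 ∧ (e = 3 ∨ e = 12) := by
  have h3 := (Rel.three_le h.rel)
  rcases Nat.lt_or_ge e 5 with h5 | h5
  · have h34 : e = 3 ∨ e = 4 := by omega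
    rcases h34 with rfl | rfl
    · exact ⟨alt3 h, Or.inl rfl⟩
    · exact (alt4 h).elim
  · by_cases h6 : e = 6
    · subst h6
      exact (alt6 h).elim
    · obtain ⟨h7, h8⟩ := alt_big h h5 h6
      exact ⟨h8, Or.inr h7⟩

end Cfsg.Agent.H390.Num
end

-- part: H390/AltRed
section
/-!
# Alternating composition factors: the reduction for `k ≥ 6` (helper390)
-/

set_option autoImplicit false

namespace Cfsg.Agent.H390

open Subgroup Equiv Equiv.Perm
open scoped Nat

theorem exists_of_section {G : Type*} [Group G] [Finite G] {H : Subgroup G} {S : Type*} [Group S] (f : H →* S)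
    (hf : Function.Surjective f) {m : ℕ} (h : ∃ x : S, orderOf x = m) : ∃ x : G, orderOf x = m := by
  obtain ⟨x, hx⟩ := Chief.exists_orderOf_of_surjective f hf h
  exact ⟨x, by rw [Subgroup.orderOf_coe, hx]⟩

theorem exists_iff_of_range {G L : Type*} [Group G] [Group L]
    (h : Set.range (orderOf : G → ℕ) = Set.range (orderOf : L → ℕ)) (m : ℕ) :
    (∃ x : G, orderOf x = m) ↔ ∃ x : L, orderOf x = m := by
  have h1 : m ∈ Set.range (orderOf : G → ℕ) ↔ m ∈ Set.range (orderOf : L → ℕ) := by rw [h]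
  exact h1

/-- prime powers in `A_k` -/
theorem alt_prime_pow {p b k : ℕ} (hp : p.Prime) (hk : p ^ (b + 1) + 2 ≤ k) :
    ∃ g : alternatingGroup (Fin k), orderOf g = p ^ (b + 1) := by
  rcases hp.eq_two_or_odd' with rfl | hodd
  · obtain ⟨g, hg⟩ := Cfsg.Agent.H380.AltSpec.exists_orderOf (n := k) {2 ^ (b + 1), 2}
      (by simp; exact hk) (by
        intro a ha
        simp at ha
        rcases ha with rfl | rfl
        · rw [pow_succ]
          have := Nat.one_le_two_pow (n := b)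
          omega
        · exact le_rfl) (by
        simp only [_root_.Multiset.insert_eq_cons, _root_.Multiset.sum_cons, _root_.Multiset.sum_singleton, _root_.Multiset.card_cons, _root_.Multiset.card_singleton, _root_.Nat.reduceAdd]
        exact ⟨2 ^ b + 2, by rw [pow_succ]; ring⟩)
    refine ⟨g, ?_⟩
    rw [hg]
    simp only [Multiset.insert_eq_cons, Multiset.lcm_cons, Multiset.lcm_singleton]
    simp only [normalize_eq]
    exact Nat.lcm_eq_left (dvd_pow_self 2 (by omega))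
  · obtain ⟨g, hg⟩ := Cfsg.Agent.H380.AltSpec.exists_orderOf (n := k) {p ^ (b + 1)}
      (by simp; omega) (by
        intro a ha
        simp at ha
        rw [ha]
        exact hp.two_le.trans (Nat.le_self_pow (by omega) p)) (by
        simp only [_root_.Multiset.sum_singleton, _root_.Multiset.card_singleton]
        exact (hodd.pow).add_odd odd_one)
    refine ⟨g, ?_⟩
    rw [hg]
    simp

theorem alt_prime {p k : ℕ} (hp : p.Prime) (hk4 : 4 ≤ k) (hk : p ≤ k) :
    ∃ g : alternatingGroup (Fin k), orderOf g = p := by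
  rcases hp.eq_two_or_odd' with rfl | hodd
  · have := alt_prime_pow (p := 2) (b := 0) (k := k) hp (by norm_num; exact hk4)
    simpa only [_root_.Subtype.exists, _root_.Subgroup.orderOf_mk, _root_.Equiv.Perm.mem_alternatingGroup, _root_.exists_prop, _root_.zero_add, _root_.pow_one] using this
  · obtain ⟨g, hg⟩ := Cfsg.Agent.H380.AltSpec.exists_orderOf (n := k) {p}
      (by simp; omega) (by
        intro a ha
        simp at ha
        rw [ha]
        exact hp.two_le) (by
        simp only [_root_.Multiset.sum_singleton, _root_.Multiset.card_singleton]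
        exact hodd.add_odd odd_one)
    refine ⟨g, ?_⟩
    rw [hg]
    simp

theorem dvd_factorial_of_mem {m k : ℕ} (h : ∃ g : alternatingGroup (Fin k), orderOf g = m) : m ∣ k ! := by
  obtain ⟨g, rfl⟩ := h
  rw [← Subgroup.orderOf_coe]
  have h1 := _root_.orderOf_dvd_natCard (g : Perm (Fin k))
  rwa [Nat.card_eq_fintype_card, Fintype.card_perm, Fintype.card_fin] at h1

/-- **The reduction for `k ≥ 6`.** -/
theorem red_alt {L : Type*} [Group L] [Finite L] {G : Type*} [Group G] [Finite G]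
    (h : Set.range (orderOf : G → ℕ) = Set.range (orderOf : L → ℕ)) {q e n D : ℕ} (hfam : Fam L q e n D)
    (he4 : e = 4 → 4 ≤ q) {H : Subgroup G} (hH : H.IsSubnormal) {k : ℕ} (hk : 6 ≤ k)
    (f : H →* alternatingGroup (Fin k)) (hf : Function.Surjective f) (hs : IsSimpleGroup (alternatingGroup (Fin k)))
    (hna : ¬ ∀ x y : alternatingGroup (Fin k), Commute x y) : q = 2 ∧ (e = 3 ∨ e = 12) := by
  obtain ⟨p, ff, hp, hff, hq, F⟩ := hfam.facts
  have hrel := hfam.rel
  have he3 := Num.Rel.three_le hrel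
  have hq2 : 2 ≤ q := by
    rw [hq]
    exact hp.two_le.trans (Nat.le_self_pow (by omega) p)
  have hGL := exists_iff_of_range h
  -- analysis of a primitive prime
  have key : ∀ s : ℕ, s.Prime → orderOf (q : ZMod s) = e →
      s ≤ k ∧ k ≤ s + 2 ∧ ¬ s ^ 2 ∣ q ^ e - 1 ∧ e ∣ s - 1 ∧ 5 ≤ s := by
    intro s hsp hse
    obtain ⟨hs2, hs3, hsq, hed, hes⟩ := prim_cond hsp hse he3
    have hs5 : 5 ≤ s := by
      by_contra hcon
      have : s = 4 := by
        have := hsp.two_le
        omega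
      rw [this] at hsp
      revert hsp
      norm_num
    have hno : ∀ g : G, orderOf g ≠ s * 3 := by
      intro g hg
      obtain ⟨x, hx⟩ := (hGL (s * 3)).1 ⟨g, hg⟩
      exact F.f1 s hsp hse x hx
    have hmain := Chief.main hsp Nat.prime_three hs3 hH f hf hna hno
      (alt_noncyclic Nat.prime_three (by norm_num) (by omega)) (alt_index (by omega) hs hna hsp hs2)
    have hmem : ∀ a : ℕ, s ^ a ∣ q ^ e - 1 → ∃ x : alternatingGroup (Fin k), orderOf x = s ^ a := by
      intro a ha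
      exact hmain.1 a ((hGL _).2 (F.f2 s a hsp hse ha))
    have hsd : s ∣ q ^ e - 1 := dvd_of_orderOf (by omega) hse dvd_rfl
    have hsk : s ≤ k := by
      have h1 := dvd_factorial_of_mem (hmem 1 (by rwa [pow_one]))
      rw [pow_one] at h1
      exact (hsp.dvd_factorial).1 h1
    have hks : k ≤ s + 2 := by
      by_contra hcon
      have h1 := (Cfsg.Agent.S2466.result k s 3 hsp Nat.prime_three hs2 (by norm_num) hs3 hsk (by omega)).2 (by omega)
      obtain ⟨g, hg⟩ := exists_of_section f hf (m := s * 3) h1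
      exact hno g hg
    refine ⟨hsk, hks, ?_, hed, hs5⟩
    intro h2
    exact not_sq_dvd_factorial hsp (by omega) (dvd_factorial_of_mem (hmem 2 h2))
  -- a primitive prime
  obtain ⟨r, hr, hre⟩ := Cfsg.Agent.Lib.Zsigmondy.exists_prime_orderOf hq2 (by omega : 2 ≤ e) (by omega) (by
    rintro ⟨h1, h2⟩
    rcases hrel with ⟨_, _, _, h3, _⟩ | ⟨h3, _⟩
    · have := h3 h2
      omega
    · rw [h2] at h3
      revert h3
      decide)
  obtain ⟨h1, h2, h3, h4, h5⟩ := key r hr hre
  refine Num.alt_all (p := p) (f := ff) (q := q) (e := e) (n := n) (D := D) (r := r) (k := k)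
    ⟨hp, hff, hq, hrel, hr, hre, ?_, h3, h1, ?_, ?_, he4⟩
  · intro s hsp hse
    obtain ⟨g1, g2, g3, g4, g5⟩ := key s hsp hse
    rcases Nat.lt_trichotomy s r with hlt | heq | hgt
    · exfalso
      have hd : e ∣ r - s := by
        have : r - s = (r - 1) - (s - 1) := by omega
        rw [this]
        exact Nat.dvd_sub h4 g4
      have := Nat.le_of_dvd (by omega) hd
      omega
    · exact heq
    · exfalso
      have hd : e ∣ s - r := by
        have : s - r = (s - 1) - (r - 1) := by omega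
        rw [this]
        exact Nat.dvd_sub g4 h4
      have := Nat.le_of_dvd (by omega) hd
      omega
  · intro b hb
    by_contra hcon
    push Not at hcon
    have h6 := exists_of_section f hf (alt_prime_pow (b := b) hp hcon)
    have := F.f4 b ((hGL _).1 h6)
    omega
  · intro t ht htr
    have h6 := exists_of_section f hf (alt_prime (k := k) ht (by omega) (by omega))
    obtain ⟨x, hx⟩ := (hGL _).1 h6
    exact F.f3 t ht (by rw [← hx]; exact _root_.orderOf_dvd_natCard x)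

end Cfsg.Agent.H390
end

-- part: H390/Five
section
/-!
# Composition factors `A₅` (helper390)

* `exists_almost`: a group with an odd prime not adjacent to `2` and a nonabelian composition factor is almost simple
  modulo its solvable radical, the socle is the composition factor;
* `no_five`: no composition factor `A₅` if there are three nonadjacent primes, two of them at least seven.
-/

set_option autoImplicit false

namespace Cfsg.Agent.H390

open Subgroup Equiv Equiv.Perm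
open scoped Nat

theorem sch_of_simple {S : Type*} [Group S] [Finite S] (hs : IsSimpleGroup S) : Schreier.Basic.Sch S :=
  (Schreier.Bridge.sch_iff inferInstance).2 (Cfsg.Agent.S5758.result (G := S))

/-- the solvable radical -/
theorem isSolvable_sup {G : Type*} [Group G] (K M : Subgroup G) [K.Normal] (hK : Group.IsSolvable ↥K)
    (hM : Group.IsSolvable ↥M) : Group.IsSolvable ↥(K ⊔ M) := by
  let f : ↥K →* ↥(K ⊔ M) := Subgroup.inclusion le_sup_left
  have h1 : ∀ x : ↥(K ⊔ M), (QuotientGroup.mk' K) (x : G) ∈ M.map (QuotientGroup.mk' K) := by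
    intro x
    have h2 : (K ⊔ M).map (QuotientGroup.mk' K) = M.map (QuotientGroup.mk' K) := by
      rw [Subgroup.map_sup, (Subgroup.map_eq_bot_iff _).2 (by rw [QuotientGroup.ker_mk']), bot_sup_eq]
    rw [← h2]
    exact ⟨x, x.2, rfl⟩
  let g : ↥(K ⊔ M) →* ↥(M.map (QuotientGroup.mk' K)) :=
    ((QuotientGroup.mk' K).comp (K ⊔ M).subtype).codRestrict _ h1
  have hM' : Group.IsSolvable ↥(M.map (QuotientGroup.mk' K)) :=
    Group.isSolvable_of_surjective (f := (QuotientGroup.mk' K).subgroupMap M)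
      ((QuotientGroup.mk' K).subgroupMap_surjective M)
  refine Group.isSolvable_of_ker_le_range f g ?_
  intro x hx
  have h3 : (QuotientGroup.mk' K) (x : G) = 1 := congrArg (fun z : ↥(M.map (QuotientGroup.mk' K)) => (z : G ⧸ K)) hx
  rw [QuotientGroup.mk'_apply, QuotientGroup.eq_one_iff] at h3
  exact ⟨⟨x, h3⟩, Subtype.ext rfl⟩

theorem exists_radical (G : Type*) [Group G] [Finite G] : ∃ K : Subgroup G, K.Normal ∧ Group.IsSolvable ↥K ∧
    ∀ M : Subgroup G, M.Normal → Group.IsSolvable ↥M → M ≤ K := by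
  classical
  obtain ⟨K, hK⟩ := Set.Finite.exists_maximal (s := {M : Subgroup G | M.Normal ∧ Group.IsSolvable ↥M})
    (Set.toFinite _) ⟨⊥, inferInstance, inferInstance⟩
  have hKn : K.Normal := hK.1.1
  refine ⟨K, hKn, hK.1.2, fun M hM hMs => ?_⟩
  have h1 : K ⊔ M ∈ {M : Subgroup G | M.Normal ∧ Group.IsSolvable ↥M} :=
    ⟨Subgroup.sup_normal K M, isSolvable_sup K M hK.1.2 hMs⟩
  exact le_sup_right.trans (hK.2 h1 le_sup_left)

/-- the group is almost simple modulo its solvable radical, the socle is the only nonabelian composition factor -/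
theorem exists_almost {G : Type*} [Group G] [Finite G] (heven : Even (Nat.card G)) {r : ℕ} (hr : r.Prime) (hr2 : r ≠ 2)
    (hrG : r ∣ Nat.card G) (hno : ∀ g : G, orderOf g ≠ 2 * r) (hns : ¬ Group.IsSolvable G) :
    ∃ (R : Subgroup G) (_ : R.Normal) (S : Subgroup (G ⧸ R)), Group.IsSolvable ↥R ∧ S.Normal ∧ IsSimpleGroup ↥S ∧
      ¬ IsMulCommutative ↥S ∧ centralizer (S : Set (G ⧸ R)) = ⊥ ∧
      ∀ (H : Subgroup G), H.IsSubnormal → ∀ (N : Subgroup ↥H) [N.Normal], IsSimpleGroup (↥H ⧸ N) →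
        ¬ IsMulCommutative (↥H ⧸ N) → Nonempty ((↥H ⧸ N) ≃* ↥S) := by
  obtain ⟨R, hRn, hRs, hRm⟩ := exists_radical G
  obtain ⟨S, hSn, hSs, hSna, hSc⟩ := Cfsg.Agent.S4008.result hns heven r hr hr2 hrG hno R hRs hRm
  refine ⟨R, hRn, S, hRs, hSn, hSs, hSna, hSc, ?_⟩
  intro H hH N _ hs hna
  exact Cfsg.Agent.H403.comp_iso R hRs S hSs (sch_of_simple hSs) hSc H hH N hs hna

theorem card_aut_alt_five : Nat.card (MulAut (alternatingGroup (Fin 5))) = 120 := by
  have h3 := Nat.card_congr (Equiv.ofBijective _ (Cfsg.Agent.S2119.result 5 (by norm_num) (by norm_num)))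
  rw [← h3, Nat.card_eq_fintype_card, Fintype.card_perm, Fintype.card_fin]
  decide

/-- primes at least seven divide the order of the radical if the socle is `A₅` -/
theorem dvd_radical {G : Type*} [Group G] [Finite G] {R : Subgroup G} [R.Normal] {S : Subgroup (G ⧸ R)} [S.Normal]
    (hc : centralizer (S : Set (G ⧸ R)) = ⊥) (e : ↥S ≃* alternatingGroup (Fin 5)) {s : ℕ} (hs : s.Prime) (h7 : 7 ≤ s)
    (h : s ∣ Nat.card G) : s ∣ Nat.card R := by
  rw [← Subgroup.card_mul_index R, hs.dvd_mul] at h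
  rcases h with h | h
  · exact h
  · exfalso
    have h1 : s ∣ Nat.card (G ⧸ R) := h
    let ff : G ⧸ R →* MulAut ↥S := MulAut.conjNormal
    have hff : Function.Injective ff := by
      rw [injective_iff_map_eq_one]
      intro x hx
      have h2 : x ∈ centralizer (S : Set (G ⧸ R)) := by
        rw [mem_centralizer_iff]
        intro y hy
        have h3 := congrArg (fun f : MulAut ↥S => ((f ⟨y, hy⟩ : ↥S) : G ⧸ R)) hx
        simp only [ff, MulAut.conjNormal_apply, MulAut.one_apply] at h3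
        calc y * x = x * y * x⁻¹ * x := by rw [h3]
          _ = x * y := by group
      rwa [hc, mem_bot] at h2
    have h2 := Subgroup.card_dvd_of_injective ff hff
    have h3 : Nat.card (MulAut ↥S) = 120 := by
      rw [← card_aut_alt_five]
      exact Nat.card_congr (MulAut.congr e).toEquiv
    rw [h3] at h2
    have h4 : s ∣ 2 ^ 3 * 3 * 5 := by
      have : 2 ^ 3 * 3 * 5 = 120 := by norm_num
      rw [this]
      exact h1.trans h2
    rcases hs.dvd_mul.1 h4 with h5 | h5
    · rcases hs.dvd_mul.1 h5 with h6 | h6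
      · have := (Nat.prime_dvd_prime_iff_eq hs Nat.prime_two).1 (hs.dvd_of_dvd_pow h6)
        omega
      · have := Nat.le_of_dvd (by norm_num) h6
        omega
    · have := Nat.le_of_dvd (by norm_num) h5
      omega

theorem dvd_card_of_range {G L : Type*} [Group G] [Group L] [Finite G] [Finite L]
    (h : Set.range (orderOf : G → ℕ) = Set.range (orderOf : L → ℕ)) {r : ℕ} (hr : r.Prime) (hrL : r ∣ Nat.card L) :
    r ∣ Nat.card G := by
  have := Fact.mk hr
  obtain ⟨x, hx⟩ := exists_prime_orderOf_dvd_card' r hrL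
  obtain ⟨g, hg⟩ := (exists_iff_of_range h r).2 ⟨x, hx⟩
  rw [← hg]
  exact _root_.orderOf_dvd_natCard g

/-- **No composition factor `A₅`.** -/
theorem no_five {L : Type*} [Group L] [Finite L] {G : Type*} [Group G] [Finite G]
    (h : Set.range (orderOf : G → ℕ) = Set.range (orderOf : L → ℕ)) (hC : Cocl L) (hev : 2 ∣ Nat.card L)
    (hFar : ∃ r : ℕ, r.Prime ∧ r ≠ 2 ∧ r ∣ Nat.card L ∧ ∀ g : L, orderOf g ≠ 2 * r)
    (H : Subgroup G) (hH : H.IsSubnormal) (N : Subgroup ↥H) [N.Normal] (hs : IsSimpleGroup (↥H ⧸ N))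
    (hna : ¬ IsMulCommutative (↥H ⧸ N)) (e : (↥H ⧸ N) ≃* alternatingGroup (Fin 5)) : False := by
  have hGL := exists_iff_of_range h
  obtain ⟨r0, hr0, hr02, hr0L, hr0no⟩ := hFar
  have hns : ¬ Group.IsSolvable G := by
    intro hsol
    exact Cfsg.Agent.H403.not_solvable_of_simple hs hna inferInstance
  obtain ⟨R, hRn, S, hRs, hSn, hSs, hSna, hSc, hall⟩ := exists_almost
    (even_iff_two_dvd.2 (dvd_card_of_range h Nat.prime_two hev)) hr0 hr02
    (dvd_card_of_range h hr0 hr0L) (fun g hg => by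
      obtain ⟨x, hx⟩ := (hGL _).1 ⟨g, hg⟩
      exact hr0no x hx) hns
  obtain ⟨i⟩ := hall H hH N hs hna
  obtain ⟨r, s, t, hr, hs', ht, h7r, h7s, hrs, hrt, hst, hrL, hsL, htL, n1, n2, n3⟩ := hC
  have hn : ∀ m : ℕ, (∀ g : L, orderOf g ≠ m) → ¬ ∃ g : G, orderOf g = m := by
    rintro m hm ⟨g, hg⟩
    obtain ⟨x, hx⟩ := (hGL _).1 ⟨g, hg⟩
    exact hm x hx
  exact Cfsg.Agent.H395.Coclique.coclique hr hs' ht hrs hrt hst (hn _ n1) (hn _ n2) (hn _ n3) R hRs
    (dvd_radical hSc (i.symm.trans e) hr h7r (dvd_card_of_range h hr hrL))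
    (dvd_radical hSc (i.symm.trans e) hs' h7s (dvd_card_of_range h hs' hsL)) (dvd_card_of_range h ht htL)

end Cfsg.Agent.H390
end

private theorem dce_6a2f4e2e9e17 : _root_.True := by
  try have : _root_.True := by simp only [_root_.Cfsg.Agent.H390.Num.phiN.eq_2]
  try have : _root_.True := by simp only [_root_.Cfsg.Agent.H390.Num.Dm.eq_1]
  try have : _root_.True := by simp only [_root_.Cfsg.Agent.H390.Num.phiN.eq_def]
  try have : _root_.True := by simp only [_root_.Cfsg.Agent.H390.Num.phiN.eq_1]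
  try have : _root_.True := by simp only [_root_.Cfsg.Agent.H390.Num.nm.eq_1]
  try have : _root_.True := by simp only [_root_.Cfsg.Agent.H390.Num.uu.eq_1]
  exact _root_.True.intro
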